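import Cfsg.Agent.Lib.Sporadic.McLUnique.CertData

/-!
# Coset enumeration certificate for the McL uniqueness presentation, closedness

Machine-generated data and the kernel checks on it.
-/

set_option maxRecDepth 100000

namespace CfsgLib.Sporadic.CosetCert.McLU

theorem certU_closed0 : certU.closedFrom 121106 0 2000 = true := by decide +kernel
theorem certU_closed1 : certU.closedFrom 121106 2000 2000 = true := by decide +kernel
theorem certU_closed2 : certU.closedFrom 121106 4000 2000 = true := by decide +kernel
theorem certU_closed3 : certU.closedFrom 121106 6000 2000 = true := by decide +kernel
theorem certU_closed4 : certU.closedFrom 121106 8000 2000 = true := by decide +kernel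
theorem certU_closed5 : certU.closedFrom 121106 10000 2000 = true := by decide +kernel
theorem certU_closed6 : certU.closedFrom 121106 12000 2000 = true := by decide +kernel
theorem certU_closed7 : certU.closedFrom 121106 14000 2000 = true := by decide +kernel
theorem certU_closed8 : certU.closedFrom 121106 16000 2000 = true := by decide +kernel
theorem certU_closed9 : certU.closedFrom 121106 18000 2000 = true := by decide +kernel
theorem certU_closed10 : certU.closedFrom 121106 20000 2000 = true := by decide +kernel
theorem certU_closed11 : certU.closedFrom 121106 22000 275 = true := by decide +kernel

end CfsgLib.Sporadic.CosetCert.McLU
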