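import Cfsg.Agent.Lib.Sporadic.McLUnique.CertData

/-!
# Coset enumeration certificate for the McL uniqueness presentation, part 1

Machine-generated data and the kernel checks on it.
-/

set_option maxRecDepth 100000

namespace CfsgLib.Sporadic.CosetCert.McLU

theorem certU_keys5 : certU.keysOK 20000 4000 = true := by decide +kernel
theorem certU_keys6 : certU.keysOK 24000 4000 = true := by decide +kernel
theorem certU_keys7 : certU.keysOK 28000 4000 = true := by decide +kernel
theorem certU_keys8 : certU.keysOK 32000 4000 = true := by decide +kernel
theorem certU_keys9 : certU.keysOK 36000 4000 = true := by decide +kernel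

end CfsgLib.Sporadic.CosetCert.McLU
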