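import Cfsg.Agent.Lib.Sporadic.McLUnique.CertData

/-!
# Coset enumeration certificate for the McL uniqueness presentation, part 4

Machine-generated data and the kernel checks on it.
-/

set_option maxRecDepth 100000

namespace CfsgLib.Sporadic.CosetCert.McLU

theorem certU_keys20 : certU.keysOK 80000 4000 = true := by decide +kernel
theorem certU_keys21 : certU.keysOK 84000 4000 = true := by decide +kernel
theorem certU_keys22 : certU.keysOK 88000 4000 = true := by decide +kernel
theorem certU_keys23 : certU.keysOK 92000 4000 = true := by decide +kernel
theorem certU_keys24 : certU.keysOK 96000 4000 = true := by decide +kernel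

end CfsgLib.Sporadic.CosetCert.McLU
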