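import Cfsg.Agent.Lib.Sporadic.McLUnique.CertData

/-!
# Coset enumeration certificate for the McL uniqueness presentation, part 7

Machine-generated data and the kernel checks on it.
-/

set_option maxRecDepth 100000

namespace CfsgLib.Sporadic.CosetCert.McLU

theorem certU_keys35 : certU.keysOK 140000 4000 = true := by decide +kernel
theorem certU_keys36 : certU.keysOK 144000 4000 = true := by decide +kernel
theorem certU_keys37 : certU.keysOK 148000 3626 = true := by decide +kernel

end CfsgLib.Sporadic.CosetCert.McLU
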