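import Cfsg.Agent.Lib.Sporadic.McLUnique.CertKeys0
import Cfsg.Agent.Lib.Sporadic.McLUnique.CertKeys1
import Cfsg.Agent.Lib.Sporadic.McLUnique.CertKeys2
import Cfsg.Agent.Lib.Sporadic.McLUnique.CertKeys3
import Cfsg.Agent.Lib.Sporadic.McLUnique.CertKeys4
import Cfsg.Agent.Lib.Sporadic.McLUnique.CertKeys5
import Cfsg.Agent.Lib.Sporadic.McLUnique.CertKeys6
import Cfsg.Agent.Lib.Sporadic.McLUnique.CertKeys7
import Cfsg.Agent.Lib.Sporadic.McLUnique.CertClosed

/-!
# Coset enumeration certificate for the McL uniqueness presentation, validity

Machine-generated data and the kernel checks on it.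
-/

set_option maxRecDepth 100000

namespace CfsgLib.Sporadic.CosetCert.McLU

theorem certU_valid : certU.Valid :=
  valid_of
    (fun k hk => (range_split (range_split (range_split (range_split (range_split (range_split (keysOK_spec certU_keys0) (keysOK_spec certU_keys1)) (keysOK_spec certU_keys2)) (range_split (keysOK_spec certU_keys3) (keysOK_spec certU_keys4))) (range_split (range_split (range_split (keysOK_spec certU_keys5) (keysOK_spec certU_keys6)) (keysOK_spec certU_keys7)) (range_split (keysOK_spec certU_keys8) (keysOK_spec certU_keys9)))) (range_split (range_split (range_split (range_split (keysOK_spec certU_keys10) (keysOK_spec certU_keys11)) (keysOK_spec certU_keys12)) (range_split (keysOK_spec certU_keys13) (keysOK_spec certU_keys14))) (range_split (range_split (keysOK_spec certU_keys15) (keysOK_spec certU_keys16)) (range_split (keysOK_spec certU_keys17) (keysOK_spec certU_keys18))))) (range_split (range_split (range_split (range_split (range_split (keysOK_spec certU_keys19) (keysOK_spec certU_keys20)) (keysOK_spec certU_keys21)) (range_split (keysOK_spec certU_keys22) (keysOK_spec certU_keys23))) (range_split (range_split (range_split (keysOK_spec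 certU_keys24) (keysOK_spec certU_keys25)) (keysOK_spec certU_keys26)) (range_split (keysOK_spec certU_keys27) (keysOK_spec certU_keys28)))) (range_split (range_split (range_split (range_split (keysOK_spec certU_keys29) (keysOK_spec certU_keys30)) (keysOK_spec certU_keys31)) (range_split (keysOK_spec certU_keys32) (keysOK_spec certU_keys33))) (range_split (range_split (keysOK_spec certU_keys34) (keysOK_spec certU_keys35)) (range_split (keysOK_spec certU_keys36) (keysOK_spec certU_keys37)))))) k (Nat.zero_le _) hk)
    (fun u hu => ⟨121106, (range_split (range_split (range_split (range_split (closedFrom_spec certU_closed0) (closedFrom_spec certU_closed1)) (closedFrom_spec certU_closed2)) (range_split (range_split (closedFrom_spec certU_closed3) (closedFrom_spec certU_closed4)) (closedFrom_spec certU_closed5))) (range_split (range_split (range_split (closedFrom_spec certU_closed6) (closedFrom_spec certU_closed7)) (closedFrom_spec certU_closed8)) (range_split (range_split (closedFrom_spec certU_closed9) (closedFrom_spec certU_closed10)) (closedFrom_spec certU_closed11)))) u (Nat.zero_le _) hu⟩)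
    (by decide +kernel) (by decide +kernel)

end CfsgLib.Sporadic.CosetCert.McLU
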