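import Cfsg.Agent.Lib.Sporadic.McLUnique.Rels
import Cfsg.Agent.Lib.Sporadic.McLUnique.Cert
import Cfsg.Agent.Lib.Sporadic.McLUnique.CertSmall
import Cfsg.Agent.Lib.SmallGroups.LeechMcL
import Cfsg.Agent.Lib.SmallGroups.MathieuSimple

/-!
# The subgroup generated by the centraliser and the outer involution is McLaughlin's group

In the product with the model the seven letters satisfy the relators of a coset table with 22275 rows over the
graph of the isomorphism of the centralisers; so the subgroup they generate has at most the order of the model,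
onto which it maps.
-/

set_option autoImplicit false
set_option maxRecDepth 100000

namespace CfsgLib.Sporadic.McLUnique

open CfsgLib.Sporadic.OutCert CfsgLib.Sporadic.OutCert.McL CosetCert

attribute [local irreducible] lk pkF allF compK oneK ka kai kb gTab twoTree fixB cgKeys eKeys cvKeys cvW classW
  xKey basW centW letterW lKeys nAct lTab eNW stabW s2Tab wBool

/-- The number of a word in the seven letters. -/
noncomputable def pk7 (l : List ℕ) : ℕ := l.foldr (fun j a => compK 9 275 (lKeys.getD j 0) a) (oneK 9 275)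

/-- The letter of each position in the three tables. -/
def mapU : List ℕ := [0, 1, 2, 3, 6]

/-- The letter of each position in the small tables. -/
def mapS (k : ℕ) : List ℕ := [[0, 1, 2, 4, 6], [0, 2, 3, 5, 6]].getD k []

/-- The positions of letters among the normalising letters. -/
def posN (k : Fin 2) (q : List ℕ) : List ℕ := q.map fun x => (nLet.getD k []).idxOf x

/-- The check of a justified relator. -/
noncomputable def whyOK : List ℕ → Why → Bool
  | r, .cen => r.all fun x => Nat.blt x 6
  | r, .conj p a b => r.rotate p == (6 :: a) ++ (6 :: b) && ((a ++ b).all fun x => Nat.blt x 6) &&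
      cvKeys.contains (ck (lW a))
  | r, .pow p k o q => if hk : k < 2 then
      r.rotate p == (List.replicate o (6 :: q)).flatten && ((posN ⟨k, hk⟩ q).all fun x => Nat.blt x 4) &&
        (posN ⟨k, hk⟩ q).map (fun x => (nLet.getD k []).getD x 0) == q &&
        (List.replicate o (cmp (wAct.getD k []) (actW ⟨k, hk⟩ (posN ⟨k, hk⟩ q)))).foldr cmp id16 == id16 &&
        ((List.range 16).all fun n =>
          !(ap (cmp (wAct.getD k []) (actW ⟨k, hk⟩ (posN ⟨k, hk⟩ q))) n == n) || n == 0)
    else false
  | _, .small _ => false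

/-- The check of a relator in the model. -/
noncomputable def modelOK (r : List ℕ) : Bool :=
  (r.all fun x => Nat.blt x 7) && pk7 r == oneK 9 275

/-- The check that the words of a table are the listed relators, then single letters. -/
noncomputable def tableOK (C : Cert) (mp : List ℕ) (rels : List (List ℕ × Why)) : Bool :=
  C.nl == 5 && mp.length == 5 && ((List.range 5).all fun x => C.inv x == x) &&
    (mp.all fun x => Nat.blt x 7) && C.nr == rels.length &&
    ((List.range C.nr).all fun i => (C.letters i).map (mp.getD · 7) == (rels.getD i ([], .cen)).1) &&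
    ((List.range C.words.length).all fun i => Nat.blt i C.nr ||
      ((C.word i).1 == 1 && Nat.blt (mp.getD (Cert.letterAt (C.word i).1 (C.word i).2 0 0) 7) 6))

/-- The check of a relator read off a small table. -/
noncomputable def derivedOK (C : Cert) (top : ℕ) (mp r : List ℕ) : Bool :=
  (r.map fun x => mp.idxOf x).map (mp.getD · 7) == r && ((r.map fun x => mp.idxOf x).all fun x => Nat.blt x 5) &&
    C.walk top 0 (r.map fun x => mp.idxOf x) == 1

theorem tables_ok : tableOK McLU.certU mapU bigRels = true ∧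
    tableOK McLU.certS0 (mapS 0) (smallRels.getD 0 []) = true ∧
    tableOK McLU.certS1 (mapS 1) (smallRels.getD 1 []) = true := by
  decide +kernel

theorem small_ok : (smallRels.all fun l => l.all fun e => modelOK e.1 && whyOK e.1 e.2) = true := by
  decide +kernel

theorem big_ok : (bigRels.all fun e => modelOK e.1 && match e.2 with
    | .small k => if k = 0 then derivedOK McLU.certS0 638 (mapS 0) e.1
        else derivedOK McLU.certS1 485 (mapS 1) e.1
    | y => whyOK e.1 y) = true := by
  decide +kernel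

theorem gen_words : pk7 aWord = ka ∧ pk7 bWord = kb ∧ (aWord.all fun x => mapU.contains x) = true ∧
    (bWord.all fun x => mapU.contains x) = true ∧ lKeys.getD 0 0 = ck (letterW.getD 0 []) := by
  decide +kernel

variable {G : Type*} [Group G] (S : Setting G) (w : G)

/-- The seven letters in the product with the model. -/
noncomputable def gam (j : ℕ) : G × H :=
  if j < 6 then (S.f (lt' j), (lt' j : H)) else if j = 6 then (w, wH) else 1

/-- The graph of the isomorphism of the centralisers. -/
noncomputable def graphA : Subgroup (G × H) := (S.f.prod C0.subtype).range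

/-- The product of a word. -/
noncomputable def pl (l : List ℕ) : G × H := (l.map (gam S w)).prod

theorem pl_cons (j : ℕ) (l : List ℕ) : pl S w (j :: l) = gam S w j * pl S w l := rfl

theorem pl_append (a b : List ℕ) : pl S w (a ++ b) = pl S w a * pl S w b := by
  rw [pl, List.map_append, List.prod_append]; rfl

theorem pl_lt : ∀ l : List ℕ, (∀ j ∈ l, j < 6) → pl S w l = (S.f (cw (lW l)), ((cw (lW l) : C0) : H))
  | [], _ => by
    show (1 : G × H) = (S.f 1, ((1 : C0) : H))
    rw [map_one]; rfl
  | j :: l, h => by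
    rw [pl_cons, pl_lt l fun i hi => h i (List.mem_cons_of_mem _ hi), gam, if_pos (h j List.mem_cons_self),
      show lW (j :: l) = letterW.getD j [] ++ lW l from rfl, cw_append, map_mul]
    rfl

theorem rep_pl : ∀ l : List ℕ, (∀ j ∈ l, j < 7) → Rep 9 275 (pk7 l) (((pl S w l).2 : H) : P)
  | [], _ => show Rep 9 275 (oneK 9 275) (1 : P) from rep_one hw
  | j :: l, h => by
    have hj := h j List.mem_cons_self
    have hl := rep_pl l fun i hi => h i (List.mem_cons_of_mem _ hi)
    show Rep 9 275 (compK 9 275 (lKeys.getD j 0) (pk7 l)) _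
    refine rep_comp hw ?_ hl
    rcases Nat.lt_or_eq_of_le (Nat.le_of_lt_succ hj) with h6 | rfl
    · rw [gam, if_pos h6]; exact rep_lt' h6
    · rw [gam, if_neg (lt_irrefl 6), if_pos rfl]; exact rep_wH

theorem snd_pl {r : List ℕ} (h : modelOK r = true) : (pl S w r).2 = 1 ∧ ∀ j ∈ r, j < 7 := by
  simp only [modelOK, Bool.and_eq_true, List.all_eq_true, Nat.blt_eq, beq_iff_eq] at h
  exact ⟨Subtype.ext ((rep_pl S w r h.1).inj (h.2 ▸ rep_one hw)), h.1⟩

theorem eq_one_of_mem {y : G × H} (hy : y ∈ graphA S) (h : y.2 = 1) : y = 1 := by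
  obtain ⟨c, rfl⟩ := hy
  have hc : c = 1 := Subtype.ext h
  rw [hc, map_one]

theorem pl_mem_graph {l : List ℕ} (h : ∀ j ∈ l, j < 6) : pl S w l ∈ graphA S :=
  ⟨cw (lW l), (pl_lt S w l h).symm⟩

theorem rotate_one {r : List ℕ} (p : ℕ) (h : pl S w (r.rotate p) = 1) : pl S w r = 1 := by
  rw [List.rotate_eq_drop_append_take_mod, pl_append, mul_eq_one_iff_inv_eq] at h
  rw [← List.take_append_drop (p % r.length) r, pl_append, ← h, inv_mul_cancel]

variable (w2 : w * w = 1) (hact : ∀ k : Fin 2, S.GAct k w (wAct.getD k []))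

include w2 hact

theorem why_spec {r : List ℕ} {y : Why} (hm : modelOK r = true) (h : whyOK r y = true) : pl S w r = 1 := by
  obtain ⟨h2, hlt⟩ := snd_pl S w hm
  cases y with
  | cen =>
    simp only [whyOK, List.all_eq_true, Nat.blt_eq] at h
    exact eq_one_of_mem S (pl_mem_graph S w h) h2
  | small k => simp [whyOK] at h
  | conj p a b =>
    simp only [whyOK, Bool.and_eq_true, beq_iff_eq, List.all_eq_true, List.mem_append, Nat.blt_eq,
      List.contains_iff_mem] at h
    obtain ⟨⟨hr, hl⟩, ha⟩ := h
    refine rotate_one S w p ?_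
    rw [hr]
    have ha6 : ∀ j ∈ a, j < 6 := fun j hj => hl j (Or.inl hj)
    have hb6 : ∀ j ∈ b, j < 6 := fun j hj => hl j (Or.inr hj)
    obtain ⟨i, hi, e⟩ := List.getElem_of_mem ha
    have hi' : i < 192 := lt_of_lt_of_eq hi cv_facts.2.2.1
    have hA : cw (lW a) = cv i := eq_of_rep (rep_cw _) (rep_cv hi') (by rw [List.getD_eq_getElem _ _ hi]; exact e.symm)
    have hcx : cw (lW a) * xB = xB * cw (lW a) := by
      rw [hA]
      have hk := List.all_eq_true.1 cv_facts.2.2.2 (cvKeys.getD i 0) (by
        rw [List.getD_eq_getElem _ _ hi]; exact List.getElem_mem _)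
      exact eq_of_rep (rep_mul (rep_cv hi') rep_xB) (rep_mul rep_xB (rep_cv hi')) (beq_iff_eq.1 hk)
    have hexp : pl S w ((6 :: a) ++ (6 :: b)) =
        (w * S.f (cw (lW a)) * (w * S.f (cw (lW b))), wH * (cw (lW a) : H) * (wH * (cw (lW b) : H))) := by
      rw [pl_append, pl_cons, pl_cons, pl_lt S w a ha6, pl_lt S w b hb6, gam, if_neg (lt_irrefl 6), if_pos rfl]
      rfl
    rw [hexp]
    have hrot : (pl S w (r.rotate p)).2 = 1 := by
      rw [List.rotate_eq_drop_append_take_mod, pl_append, Prod.snd_mul, mul_eq_one_iff_inv_eq]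
      have e2 := h2
      rw [← List.take_append_drop (p % r.length) r, pl_append, Prod.snd_mul, mul_eq_one_iff_eq_inv] at e2
      rw [e2]
    rw [hr, hexp] at hrot
    have hH : wH * ((cw (lW a) : C0) : H) = (((cw (lW b))⁻¹ : C0) : H) * wH := by
      have e : wH * ((cw (lW a) : C0) : H) * wH = (((cw (lW b))⁻¹ : C0) : H) := by
        rw [Subgroup.coe_inv]
        exact eq_inv_of_mul_eq_one_left (by rw [mul_assoc]; exact hrot)
      rw [← e, mul_assoc, wH_sq, mul_one]
    refine Prod.ext ?_ hrot
    show w * S.f (cw (lW a)) * (w * S.f (cw (lW b))) = 1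
    rw [conj_cv w2 hact hcx hH, map_inv, mul_assoc, ← mul_assoc w w, w2, one_mul, inv_mul_cancel]
  | pow p k o q =>
    simp only [whyOK] at h
    split_ifs at h with hk
    simp only [Bool.and_eq_true, beq_iff_eq] at h
    obtain ⟨⟨⟨⟨hr, hpos⟩, hq⟩, ho⟩, hfix⟩ := h
    generalize hl : posN ⟨k, hk⟩ q = l at hpos hq ho hfix
    have hl4 : ∀ j ∈ l, j < 4 := by simpa [List.all_eq_true] using hpos
    refine rotate_one S w p ?_
    rw [hr]
    have hpow : ∀ o, pl S w (List.replicate o (6 :: q)).flatten = pl S w (6 :: q) ^ o := by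
      intro o
      induction o with
      | zero => rw [List.replicate_zero, List.flatten_nil, pow_zero]; rfl
      | succ o ih => rw [List.replicate_succ, List.flatten_cons, pl_append, ih, pow_succ']
    rw [hpow]
    obtain ⟨hn, ok⟩ := act_nw ⟨k, hk⟩ l hl4
    have hq6 : ∀ j ∈ q, j < 6 := by
      intro j hj
      rw [← hq] at hj
      obtain ⟨i, hi, rfl⟩ := List.mem_map.1 hj
      have := List.all_eq_true.1 (n_facts.2.2.2 ⟨k, hk⟩).1
      have hlen : i < (nLet.getD k []).length := lt_of_lt_of_eq (hl4 i hi) (n_facts.2.2.2 ⟨k, hk⟩).2.2.1.symm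
      rw [List.getD_eq_getElem _ _ hlen]
      simpa using this _ (List.getElem_mem hlen)
    have hnw : cw (lW q) = nw ⟨k, hk⟩ l := by
      rw [cw_lW, ← hq, List.map_map]; rfl
    refine Prod.ext ?_ ?_
    · rw [Prod.pow_fst, pl_cons, pl_lt S w q hq6, hnw, gam, if_neg (lt_irrefl 6), if_pos rfl]
      exact pow_eq_one (gact_mul (hact ⟨k, hk⟩) (GAct_of_act hn) ok)
        (ok16_cmp (act_facts.1 ⟨k, hk⟩).2.2.2.2.1 ok) ho hfix
    · have e2 : (pl S w (r.rotate p)).2 = 1 := by
        rw [List.rotate_eq_drop_append_take_mod, pl_append, Prod.snd_mul, mul_eq_one_iff_inv_eq]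
        have e2 := h2
        rw [← List.take_append_drop (p % r.length) r, pl_append, Prod.snd_mul, mul_eq_one_iff_eq_inv] at e2
        rw [e2]
      rw [← hpow, ← hr]
      exact e2

theorem gam_sq (x : ℕ) (hx : x < 7) : gam S w x * gam S w x = 1 := by
  have h := why_spec S w w2 hact (r := [x, x]) (y := if x = 6 then .conj 0 [] [] else .cen)
  have hd : ∀ x < 7, modelOK [x, x] = true ∧ whyOK [x, x] (if x = 6 then .conj 0 [] [] else .cen) = true := by
    decide +kernel
  have h1 := h (hd x hx).1 (hd x hx).2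
  rwa [pl_cons, pl_cons, show pl S w [] = 1 from rfl, mul_one] at h1

/-- The letters in the cosets of the graph. -/
noncomputable def interp (C : Cert) (mp : List ℕ) (rels : List (List ℕ × Why)) (h : tableOK C mp rels = true) :
    C.Interp (G × H) ((G × H) ⧸ graphA S) where
  g x := gam S w (mp.getD x 7)
  base := ((1 : G × H) : (G × H) ⧸ graphA S)
  g_nl := by
    simp only [tableOK, Bool.and_eq_true, beq_iff_eq] at h
    rw [List.getD_eq_default _ _ (by rw [h.1.1.1.1.1.2, h.1.1.1.1.1.1])]
    rfl
  g_inv x hx := by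
    simp only [tableOK, Bool.and_eq_true, beq_iff_eq, List.all_eq_true, List.mem_range, Nat.blt_eq] at h
    rw [h.1.1.1.1.1.1] at hx
    rw [h.1.1.1.1.2 x hx]
    refine (inv_eq_of_mul_eq_one_right (gam_sq S w w2 hact _ ?_)).symm
    rw [List.getD_eq_getElem _ _ (h.1.1.1.1.1.2 ▸ hx)]
    exact h.1.1.1.2 _ (List.getElem_mem _)

theorem interp_prod (C : Cert) (mp : List ℕ) (rels : List (List ℕ × Why)) (h : tableOK C mp rels = true)
    (n bits : ℕ) (hl : ∀ j, Cert.letterAt n bits 0 j < C.nl) : ∀ m, (interp S w w2 hact C mp rels h).prod n bits 0 m =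
      (pl S w (((List.range m).map fun j => Cert.letterAt n bits 0 j).map (mp.getD · 7)))⁻¹
  | 0 => inv_one.symm
  | m + 1 => by
    have e := (interp S w w2 hact C mp rels h).g_inv _ (hl m)
    have h' := h
    simp only [tableOK, Bool.and_eq_true, beq_iff_eq, List.all_eq_true, List.mem_range] at h'
    rw [h'.1.1.1.1.2 _ (h'.1.1.1.1.1.1 ▸ hl m)] at e
    show (interp S w w2 hact C mp rels h).g _ * (interp S w w2 hact C mp rels h).prod n bits 0 m = _
    rw [interp_prod C mp rels h n bits hl m, List.range_succ, List.map_append, List.map_append, pl_append,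
      mul_inv_rev]
    congr 1
    rw [List.map_cons, List.map_nil, List.map_cons, List.map_nil, pl_cons, show pl S w [] = 1 from rfl, mul_one]
    exact e

theorem respects {C : Cert} (hV : C.Valid) {mp : List ℕ} {rels : List (List ℕ × Why)}
    (h : tableOK C mp rels = true) (hr : ∀ e ∈ rels, pl S w e.1 = 1) :
    (interp S w w2 hact C mp rels h).Respects := by
  intro i hi
  have h' := h
  simp only [tableOK, Bool.and_eq_true, beq_iff_eq, List.all_eq_true, List.mem_range, Nat.blt_eq,
    Bool.or_eq_true] at h'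
  have e := interp_prod S w w2 hact C mp rels h _ _ (fun j => hV.letter_lt i hi 0 j) (C.word i).1
  have hrel : i < C.nr → (interp S w w2 hact C mp rels h).prod (C.word i).1 (C.word i).2 0 (C.word i).1 = 1 := by
    intro hlt
    rw [e, inv_eq_one]
    have h1 := h'.1.2 i hlt
    rw [Cert.letters] at h1
    rw [h1]
    refine hr _ ?_
    rw [List.getD_eq_getElem _ _ (h'.1.1.2 ▸ hlt)]
    exact List.getElem_mem _
  refine ⟨hrel, ?_⟩
  by_cases hlt : i < C.nr
  · rw [hrel hlt, one_smul]
  · obtain ⟨h1, h6⟩ := (h'.2 i hi).resolve_left hlt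
    rw [e, h1]
    show ((_ * 1 : G × H) : (G × H) ⧸ graphA S) = ((1 : G × H) : (G × H) ⧸ graphA S)
    rw [mul_one, QuotientGroup.eq, mul_one, inv_inv, List.range_one, List.map_cons, List.map_nil, List.map_cons,
      List.map_nil]
    rw [h1] at h6
    exact pl_mem_graph S w (by simpa using h6)

theorem derived {C : Cert} (hV : C.Valid) {mp : List ℕ} {rels : List (List ℕ × Why)}
    (h : tableOK C mp rels = true) (hr : ∀ e ∈ rels, pl S w e.1 = 1) {top : ℕ} {r : List ℕ}
    (hm : modelOK r = true) (hd : derivedOK C top mp r = true) : pl S w r = 1 := by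
  have h' := h
  simp only [tableOK, Bool.and_eq_true, beq_iff_eq] at h'
  simp only [derivedOK, Bool.and_eq_true, beq_iff_eq] at hd
  obtain ⟨⟨hmap, h5⟩, hwalk⟩ := hd
  generalize r.map (fun x => mp.idxOf x) = l at hmap h5 hwalk
  have hl : ∀ x ∈ l, x < C.nl := by
    rw [h'.1.1.1.1.1.1]; simpa [List.all_eq_true] using h5
  let I := interp S w w2 hact C mp rels h
  have hR := respects S w w2 hact hV h hr
  have key : ∀ l : List ℕ, (∀ x ∈ l, x < C.nl) → ∀ u s, C.walk top u l = s + 1 →
      (pl S w (l.map (mp.getD · 7)))⁻¹ • I.node u = I.node s := by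
    intro l
    induction l with
    | nil =>
      intro _ u s hs
      have e : u = s := Nat.succ_injective hs
      rw [e, show pl S w (List.map (mp.getD · 7) []) = 1 from rfl, inv_one, one_smul]
    | cons x l ih =>
      intro hl u s hs
      change Nat.rec (motive := fun _ => ℕ) 0 (fun v _ => C.walk top v l) (C.look top u x) = s + 1 at hs
      rcases h2 : C.look top u x with _ | v
      · rw [h2] at hs; exact absurd hs (by simp)
      · rw [h2] at hs
        have hx := hl x List.mem_cons_self
        have e1 := Cert.table_spec (I := I) hV hR hx.le h2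
        have e3 := I.g_inv _ hx
        simp only [List.all_eq_true, List.mem_range, beq_iff_eq] at h'
        rw [h'.1.1.1.1.2 x (h'.1.1.1.1.1.1 ▸ hx)] at e3
        rw [List.map_cons, pl_cons, mul_inv_rev, mul_smul, show (gam S w (mp.getD x 7))⁻¹ = I.g x from e3.symm, e1]
        exact ih (fun y hy => hl y (List.mem_cons_of_mem _ hy)) v s hs
  have e := key l hl 0 0 hwalk
  rw [hmap, I.node_zero] at e
  have hb : (((pl S w r)⁻¹ * 1 : G × H) : (G × H) ⧸ graphA S) = ((1 : G × H) : (G × H) ⧸ graphA S) := e
  rw [mul_one, QuotientGroup.eq, mul_one, inv_inv] at hb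
  exact eq_one_of_mem S hb (snd_pl S w hm).1

theorem small_rels {l : List (List ℕ × Why)} (hl : l ∈ smallRels) : ∀ e ∈ l, pl S w e.1 = 1 := fun e he => by
  have h := List.all_eq_true.1 (List.all_eq_true.1 small_ok l hl) e he
  simp only [Bool.and_eq_true] at h
  exact why_spec S w w2 hact h.1 h.2

theorem big_rels : ∀ e ∈ bigRels, pl S w e.1 = 1 := by
  intro e he
  have h := List.all_eq_true.1 big_ok e he
  simp only [Bool.and_eq_true] at h
  obtain ⟨hm, hy⟩ := h
  have hlen : smallRels.length = 2 := rfl
  rcases e with ⟨r, y⟩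
  cases y with
  | small k =>
    simp only at hy
    split_ifs at hy with hk
    · exact derived S w w2 hact McLU.certS0_valid tables_ok.2.1
        (small_rels S w w2 hact (by rw [List.getD_eq_getElem _ _ (by omega)]; exact List.getElem_mem _)) hm hy
    · exact derived S w w2 hact McLU.certS1_valid tables_ok.2.2
        (small_rels S w w2 hact (by rw [List.getD_eq_getElem _ _ (by omega)]; exact List.getElem_mem _)) hm hy
  | cen => exact why_spec S w w2 hact hm hy
  | conj p a b => exact why_spec S w w2 hact hm hy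
  | pow p k o q => exact why_spec S w w2 hact hm hy

/-- The subgroup generated by the centraliser and the involution is a copy of the model. -/
theorem exists_model [Finite G] : ∃ M : Subgroup G, Nonempty (M ≃* H) ∧
    Subgroup.centralizer ({S.t} : Set G) ≤ M := by
  classical
  let I := interp S w w2 hact _ _ _ tables_ok.1
  let D : Subgroup (G × H) := Subgroup.closure (I.g '' Set.Iio McLU.certU.nl)
  have hidx := Cert.relIndex_le I rfl McLU.certU_valid
    (respects S w w2 hact McLU.certU_valid tables_ok.1 (big_rels S w w2 hact)) (by decide +kernel)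
  have hN : McLU.certU.N = 22275 ∧ McLU.certU.nl = 5 := by decide +kernel
  rw [hN.1] at hidx
  have hAcard : Nat.card (graphA S) = 40320 := by
    have hinj : Function.Injective (S.f.prod C0.subtype) := fun a b e => S.inj (congrArg Prod.fst e)
    rw [graphA, ← Nat.card_congr (MonoidHom.ofInjective hinj).toEquiv, card_C0_eq]
  -- the two generators of the model
  have hword : ∀ l : List ℕ, (l.all fun x => mapU.contains x) = true → pl S w l ∈ D ∧ ∀ j ∈ l, j < 7 := by
    intro l hl
    have hm : ∀ j ∈ l, ∃ x < 5, j = mapU.getD x 7 := by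
      intro j hj
      have := List.contains_iff_mem.1 (List.all_eq_true.1 hl j hj)
      obtain ⟨x, hx, e⟩ := List.getElem_of_mem this
      exact ⟨x, hx, by rw [List.getD_eq_getElem _ _ hx, e]⟩
    refine ⟨Subgroup.list_prod_mem _ ?_, fun j hj => ?_⟩
    · intro z hz
      obtain ⟨j, hj, rfl⟩ := List.mem_map.1 hz
      obtain ⟨x, hx, rfl⟩ := hm j hj
      exact Subgroup.subset_closure ⟨x, lt_of_lt_of_eq hx hN.2.symm, rfl⟩
    · obtain ⟨x, hx, rfl⟩ := hm j hj
      interval_cases x <;> decide
  have hsnd : ∀ (l : List ℕ) (h : H) (k : ℕ), pk7 l = k → (∀ j ∈ l, j < 7) → Rep 9 275 k (h : P) → (pl S w l).2 = h :=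
    fun l h k e hl hk => Subtype.ext ((rep_pl S w l hl).inj (e ▸ hk))
  let π : D →* H := (MonoidHom.snd G H).comp D.subtype
  have hπ : Function.Surjective π := by
    rw [← MonoidHom.range_eq_top, eq_top_iff, ← closure_gen, Subgroup.closure_le]
    rintro z (rfl | rfl)
    · obtain ⟨h1, h2⟩ := hword aWord gen_words.2.2.1
      exact ⟨⟨_, h1⟩, hsnd _ hA _ gen_words.1 h2 rep_A⟩
    · obtain ⟨h1, h2⟩ := hword bWord gen_words.2.2.2.1
      exact ⟨⟨_, h1⟩, hsnd _ hB _ gen_words.2.1 h2 rep_B⟩
  have hDge : 898128000 ≤ Nat.card D := H_spec.2 ▸ Nat.card_le_card_of_surjective π hπ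
  have hDeq : Nat.card ((graphA S).subgroupOf D) * (graphA S).relIndex D = Nat.card D :=
    ((graphA S).subgroupOf D).card_mul_index
  have hint : Nat.card ((graphA S).subgroupOf D) = Nat.card ↥(graphA S ⊓ D) := by
    rw [← Subgroup.inf_subgroupOf_right]
    exact Nat.card_congr (Subgroup.subgroupOfEquivOfLe inf_le_right).toEquiv
  have hle : Nat.card ↥(graphA S ⊓ D) ≤ 40320 := hAcard ▸ Subgroup.card_le_of_le inf_le_left
  have hidx' : (graphA S).relIndex D ≤ 22275 := hidx.1
  rw [hint] at hDeq
  have hDle : Nat.card D ≤ 898128000 := by rw [← hDeq]; exact (Nat.mul_le_mul hle hidx').trans (by norm_num)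
  have hsub : graphA S ≤ D := by
    refine inf_eq_left.1 (Subgroup.eq_of_le_of_card_ge inf_le_left ?_)
    rw [hAcard]
    nlinarith [hDeq, hidx', hDge]
  have hbij : Function.Bijective π := (Nat.bijective_iff_surjective_and_card π).2
    ⟨hπ, by rw [H_spec.2]; omega⟩
  let ψ : H →* G := ((MonoidHom.fst G H).comp D.subtype).comp (MulEquiv.ofBijective π hbij).symm.toMonoidHom
  have hψ : ∀ d : D, ψ (π d) = (d : G × H).1 := fun d => by
    show (((MulEquiv.ofBijective π hbij).symm (π d) : D) : G × H).1 = _
    rw [show π d = MulEquiv.ofBijective π hbij d from rfl, MulEquiv.symm_apply_apply]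
  have hC : ∀ c : C0, ψ (c : H) = S.f c := fun c => hψ ⟨(S.f c, (c : H)), hsub ⟨c, rfl⟩⟩
  obtain ⟨e⟩ := OutCert.McL.nonempty_iso_G2
  haveI := CfsgLib.SmallGroups.LeechMcL.isMcL_base.1
  haveI : IsSimpleGroup ↥Cfsg.Spor.McL := CfsgLib.SmallGroups.MathieuSimple.isSimpleGroup_congr' e.symm
  obtain ⟨e'⟩ := H_spec.1
  haveI : IsSimpleGroup H := CfsgLib.SmallGroups.MathieuSimple.isSimpleGroup_congr' e'
  have hinj : Function.Injective ψ := by
    rw [← MonoidHom.ker_eq_bot_iff]
    refine (ψ.normal_ker.eq_bot_or_eq_top).resolve_right fun htop => S.t_ne ?_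
    rw [← S.map_t, ← hC]
    exact MonoidHom.mem_ker.1 (htop ▸ Subgroup.mem_top _)
  refine ⟨ψ.range, ⟨(MonoidHom.ofInjective hinj).symm⟩, ?_⟩
  rw [← S.range_eq]
  rintro _ ⟨c, rfl⟩
  exact ⟨(c : H), hC c⟩

end CfsgLib.Sporadic.McLUnique
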