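import Cfsg.Agent.Lib.Sporadic.OutCert.McL.Cent
import Cfsg.Agent.S3335

/-!
# The non-split double cover of the alternating group of degree eight is unique

Lifts of Carmichael's generators can be chosen to satisfy one set of relations in every non-split double cover,
so two covers are both isomorphic to a common subgroup of their product.
-/

set_option autoImplicit false
set_option maxRecDepth 100000

open Cfsg

namespace CfsgLib.Sporadic.McLUnique

open CfsgLib.Sporadic.OutCert CfsgLib.Sporadic.OutCert.McL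

/-- Carmichael's generators on eight letters. -/
def X8 (i : ℕ) : Equiv.Perm (Fin 8) :=
  Equiv.swap 0 1 * Equiv.swap (Fin.ofNat 8 (i + 1)) (Fin.ofNat 8 (i + 2))

/-- The generators of the centraliser in terms of Carmichael's generators. -/
def genWords : List (List ℕ) :=
  [[0, 1, 0, 2, 1, 0, 3, 2, 1, 4, 0, 3, 2, 1, 5, 4, 3, 2, 1, 0, 1], [2, 1, 3, 2, 1, 4, 5, 4, 3, 2, 1],
    [2, 3, 2, 1, 4, 3, 2, 5, 4, 3, 2], [1, 2, 1, 5, 4, 3],
    [1, 2, 0, 1, 3, 0, 2, 4, 3, 2, 1, 0, 5, 4, 3, 2, 1, 0], [2, 0, 1, 2, 3, 4, 3, 2, 5, 4, 3, 2, 1, 0, 2],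
    [5, 0, 1, 2, 3, 4, 3, 2, 1, 0, 5]]

theorem X8_even : ∀ i < 6, Equiv.Perm.sign (X8 i) = 1 := by decide +kernel

theorem X8_cube : X8 0 ^ 3 = 1 ∧ ∀ i < 5, (X8 i * X8 (i + 1)) ^ 3 = 1 := by decide +kernel

theorem X8_inv : ∀ j < 6, 2 ≤ j → X8 j * X8 0 * (X8 j)⁻¹ = (X8 0)⁻¹ := by decide +kernel

theorem genWords_lt : ∀ w ∈ genWords, ∀ i ∈ w, i < 6 := by decide +kernel

theorem genWords_eq : ∀ k : Fin 7, ∀ i : Fin 8,
    lk 3 (eightTab.getD k (0, 0)).1 i = ((((genWords.getD k []).map X8).prod i : Fin 8) : ℕ) := by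
  decide +kernel

theorem sgen_eq (k : Fin 7) : sgen k = ((genWords.getD k []).map X8).prod :=
  Equiv.ext fun i => Fin.ext ((rep_sgen k i).symm.trans (genWords_eq k i))

/-- The product of two transpositions. -/
def dswap (a b c d : Fin 8) : Equiv.Perm (Fin 8) := Equiv.swap a b * Equiv.swap c d

/-- Elements carrying `X8 1` to the other generators. -/
def cOne (i : ℕ) : Equiv.Perm (Fin 8) :=
  [1, 1, dswap 2 3 3 4, dswap 2 4 3 5, dswap 2 5 3 6, dswap 2 6 3 7].getD i 1

/-- Elements carrying `X8 1` to the products of two commuting generators. -/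
def cTwo (i j : ℕ) : Equiv.Perm (Fin 8) :=
  dswap 0 (Fin.ofNat 8 (i + 1)) 1 (Fin.ofNat 8 (i + 2)) * dswap 2 (Fin.ofNat 8 (j + 1)) 3 (Fin.ofNat 8 (j + 2))

theorem conj_one : ∀ i : Fin 6, 1 ≤ (i : ℕ) →
    Equiv.Perm.sign (cOne i) = 1 ∧ cOne i * X8 1 * (cOne i)⁻¹ = X8 i := by
  decide +kernel

theorem conj_two : ∀ i : Fin 6, ∀ j : Fin 6, (1 ≤ (i : ℕ) ∧ (i : ℕ) + 1 < j) →
    Equiv.Perm.sign (cTwo i j) = 1 ∧ cTwo i j * X8 1 * (cTwo i j)⁻¹ = X8 i * X8 j := by
  decide +kernel

/-- The relations of the lifts. -/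
structure Rels {H : Type*} [Group H] (e : H) (x : ℕ → H) : Prop where
  e2 : e * e = 1
  central : ∀ h, h * e = e * h
  cube : x 0 ^ 3 = 1
  sq : ∀ i, 1 ≤ i → i < 6 → x i * x i = e
  next : ∀ i, i + 1 < 6 → (x i * x (i + 1)) ^ 3 = 1
  far : ∀ i j, i + 1 < j → j < 6 → (x i * x j) ^ 2 = e

/-- The subgroup generated by the lifts. -/
def gens6 {H : Type*} [Group H] (x : ℕ → H) : Subgroup H := Subgroup.closure {g | ∃ i, i < 6 ∧ x i = g}

theorem card_gens6_le {H : Type*} [Group H] [Finite H] {x : ℕ → H} (h : Rels 1 x) : Nat.card (gens6 x) ≤ 20160 := by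
  let y : ℕ → gens6 x := fun i => if hi : i < 6 then ⟨x i, Subgroup.subset_closure ⟨i, hi, rfl⟩⟩ else 1
  have hy : ∀ i, i < 6 → (y i : H) = x i := fun i hi => by simp [y, hi]
  have hR : Cfsg.Agent.S3335.Rel 6 y :=
    ⟨fun _ => Subtype.ext (by simpa [hy 0] using h.cube),
      fun i h1 h2 => Subtype.ext (by simpa [hy i h2] using h.sq i h1 h2),
      fun i h2 => Subtype.ext (by simpa [hy i (by omega), hy (i + 1) h2] using h.next i h2),
      fun i j h1 h2 => Subtype.ext (by simpa [hy i (by omega), hy j h2] using h.far i j h1 h2)⟩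
  have hgen : Subgroup.closure {g | ∃ i, i < 6 ∧ y i = g} = ⊤ := by
    apply Subgroup.map_injective (gens6 x).subtype_injective
    rw [MonoidHom.map_closure, ← MonoidHom.range_eq_map, Subgroup.range_subtype]
    show _ = Subgroup.closure _
    congr 1
    ext g
    constructor
    · rintro ⟨_, ⟨i, hi, rfl⟩, rfl⟩; exact ⟨i, hi, (hy i hi).symm⟩
    · rintro ⟨i, hi, rfl⟩; exact ⟨_, ⟨i, hi, rfl⟩, hy i hi⟩
  have := (Cfsg.Agent.S3335.Rel.bound hR hgen).2
  norm_num [Nat.factorial] at this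
  omega

theorem exists_lifts {H : Type*} [Group H] [Finite H]
    (hH : Cfsg.IsNonsplitDoubleCover H (alternatingGroup (Fin 8))) :
    Nat.card H = 40320 ∧ ∃ (e : H) (x : ℕ → H), orderOf e = 2 ∧ Subgroup.center H = Subgroup.zpowers e ∧
      Rels e x ∧ gens6 x = ⊤ := by
  classical
  obtain ⟨hc2, ⟨φ⟩, hns⟩ := hH
  haveI : Fact (Nat.Prime 2) := ⟨Nat.prime_two⟩
  obtain ⟨e, heC, he1⟩ : ∃ e ∈ Subgroup.center H, e ≠ 1 := by
    obtain ⟨e, he⟩ := Subgroup.ne_bot_iff_exists_ne_one.1 (show Subgroup.center H ≠ ⊥ by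
      intro h
      rw [h, Subgroup.card_bot] at hc2
      omega)
    exact ⟨e, e.2, fun h => he (Subtype.ext h)⟩
  have heo : orderOf e = 2 := by
    have hd : orderOf e ∣ 2 := hc2 ▸ (Subgroup.center H).orderOf_dvd_natCard heC
    rcases (Nat.dvd_prime Nat.prime_two).1 hd with h | h
    · exact absurd (orderOf_eq_one_iff.1 h) he1
    · exact h
  have hcz : Subgroup.center H = Subgroup.zpowers e :=
    (Subgroup.eq_of_le_of_card_ge (Subgroup.zpowers_le.2 heC) (by rw [hc2, Nat.card_zpowers, heo])).symm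
  have hce : ∀ h, h * e = e * h := fun h => Subgroup.mem_center_iff.1 heC h
  have hee : e * e = 1 := by rw [← pow_two, ← heo, pow_orderOf_eq_one]
  let π : H →* Equiv.Perm (Fin 8) :=
    ((alternatingGroup (Fin 8)).subtype.comp φ.toMonoidHom).comp (QuotientGroup.mk' (Subgroup.center H))
  have hker : ∀ h, π h = 1 ↔ h = 1 ∨ h = e := by
    intro h
    show ((φ (QuotientGroup.mk' _ h) : alternatingGroup (Fin 8)) : Equiv.Perm (Fin 8)) = 1 ↔ _
    rw [OneMemClass.coe_eq_one, EmbeddingLike.map_eq_one_iff, QuotientGroup.mk'_apply, QuotientGroup.eq_one_iff]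
    constructor
    · intro hh
      rw [hcz, ← mem_powers_iff_mem_zpowers] at hh
      obtain ⟨k, rfl⟩ := hh
      show e ^ k = 1 ∨ e ^ k = e
      rw [← pow_mod_orderOf, heo]
      rcases Nat.mod_two_eq_zero_or_one k with hk | hk <;> rw [hk] <;> simp
    · rintro (rfl | rfl)
      · exact one_mem _
      · exact heC
  have hsur : ∀ σ, Equiv.Perm.sign σ = 1 → ∃ h, π h = σ := by
    intro σ hσ
    obtain ⟨h, hh⟩ := QuotientGroup.mk'_surjective _ (φ.symm ⟨σ, Equiv.Perm.mem_alternatingGroup.2 hσ⟩)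
    refine ⟨h, ?_⟩
    show ((φ (QuotientGroup.mk' _ h) : alternatingGroup (Fin 8)) : Equiv.Perm (Fin 8)) = σ
    rw [hh, MulEquiv.apply_symm_apply]
  have hfib : ∀ a b, π a = π b → b = a ∨ b = a * e := by
    intro a b hab
    rcases (hker (a⁻¹ * b)).1 (by rw [map_mul, map_inv, hab, inv_mul_cancel]) with h | h
    · exact Or.inl (inv_mul_eq_one.1 h).symm
    · exact Or.inr (by rw [← h, mul_inv_cancel_left])
  have hH' : Nat.card H = 40320 := by
    rw [← (Subgroup.center H).card_mul_index, hc2, Subgroup.index, Nat.card_congr φ.toEquiv,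
      nat_card_alternatingGroup, Nat.card_fin]
    rfl
  refine ⟨hH', e, ?_⟩
  -- the lift of order three
  obtain ⟨x0, hx0, hx03⟩ : ∃ x0, π x0 = X8 0 ∧ x0 ^ 3 = 1 := by
    obtain ⟨y, hy⟩ := hsur _ (X8_even 0 (by norm_num))
    have h3 := (hker (y ^ 3)).1 (by rw [map_pow, hy, X8_cube.1])
    refine ⟨y ^ 4, by rw [map_pow, hy, pow_succ, X8_cube.1, one_mul], ?_⟩
    rw [← pow_mul, show 4 * 3 = 3 * 4 from rfl, pow_mul]
    rcases h3 with h | h <;> rw [h]
    · exact one_pow _
    · rw [show 4 = 2 * 2 from rfl, pow_mul, pow_two e, hee, one_pow]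
  -- lifts chosen successively
  have step : ∀ i, i + 1 < 6 → ∀ a, π a = X8 i → ∃ b, π b = X8 (i + 1) ∧ (a * b) ^ 3 = 1 := by
    intro i hi a ha
    obtain ⟨b, hb⟩ := hsur _ (X8_even (i + 1) hi)
    rcases (hker ((a * b) ^ 3)).1 (by rw [map_pow, map_mul, ha, hb, X8_cube.2 i (by omega)]) with h | h
    · exact ⟨b, hb, h⟩
    · refine ⟨b * e, by rw [map_mul, hb, (hker e).2 (Or.inr rfl), mul_one], ?_⟩
      rw [← mul_assoc, (show Commute (a * b) e from hce _).mul_pow, h, pow_succ e 2, pow_two, hee, one_mul, hee]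
  obtain ⟨x1, hx1, n0⟩ := step 0 (by norm_num) x0 hx0
  obtain ⟨x2, hx2, n1⟩ := step 1 (by norm_num) x1 hx1
  obtain ⟨x3, hx3, n2⟩ := step 2 (by norm_num) x2 hx2
  obtain ⟨x4, hx4, n3⟩ := step 3 (by norm_num) x3 hx3
  obtain ⟨x5, hx5, n4⟩ := step 4 (by norm_num) x4 hx4
  let x : ℕ → H := fun i => [x0, x1, x2, x3, x4, x5].getD i 1
  have hx : ∀ i < 6, π (x i) = X8 i := by
    intro i hi
    interval_cases i <;> assumption
  have hnext : ∀ i, i + 1 < 6 → (x i * x (i + 1)) ^ 3 = 1 := by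
    intro i hi
    have : i < 5 := by omega
    interval_cases i <;> assumption
  -- the common square
  have hsqc : ∀ σ y, Equiv.Perm.sign σ = 1 → π y = σ * X8 1 * σ⁻¹ → y * y = x1 * x1 := by
    intro σ y hs hy
    obtain ⟨g, hg⟩ := hsur σ hs
    have hc : x1 * x1 = 1 ∨ x1 * x1 = e := (hker _).1 (by rw [map_mul, hx1]; decide +kernel)
    have hgc : g * (x1 * x1) * g⁻¹ = x1 * x1 := by
      rcases hc with h | h <;> rw [h]
      · group
      · rw [hce, mul_inv_cancel_right]
    rcases hfib (g * x1 * g⁻¹) y (by rw [map_mul, map_mul, map_inv, hg, hx1, hy]) with h | h <;> rw [h]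
    · calc g * x1 * g⁻¹ * (g * x1 * g⁻¹) = g * (x1 * x1) * g⁻¹ := by group
        _ = _ := hgc
    · calc g * x1 * g⁻¹ * e * (g * x1 * g⁻¹ * e) = g * x1 * g⁻¹ * (e * (g * x1 * g⁻¹)) * e := by group
        _ = g * (x1 * x1) * g⁻¹ * (e * e) := by rw [← hce]; group
        _ = _ := by rw [hgc, hee, mul_one]
  have hsq : ∀ i, 1 ≤ i → i < 6 → x i * x i = x1 * x1 := by
    intro i h1 h6
    obtain ⟨hs, hσ⟩ := conj_one ⟨i, h6⟩ h1
    exact hsqc _ _ hs (by rw [hx i h6, hσ])
  have hfar : ∀ i j, i + 1 < j → j < 6 → (x i * x j) ^ 2 = x1 * x1 := by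
    intro i j hij hj
    rcases Nat.eq_zero_or_pos i with rfl | hi
    · have hinv : x j * x0 * (x j)⁻¹ = x0⁻¹ := by
        rcases hfib x0⁻¹ (x j * x0 * (x j)⁻¹) (by
          rw [map_mul, map_mul, map_inv, map_inv, hx j hj, hx0, X8_inv j hj (by omega)]) with h | h
        · exact h
        · exfalso
          have h3 : (x j * x0 * (x j)⁻¹) ^ 3 = 1 := by rw [conj_pow, hx03]; group
          rw [h, (show Commute x0⁻¹ e from hce _).mul_pow, inv_pow, hx03, inv_one, one_mul, pow_succ e 2, pow_two, hee,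
            one_mul] at h3
          exact he1 h3
      calc (x 0 * x j) ^ 2 = x0 * (x j * x0 * (x j)⁻¹) * (x j * x j) := by
            rw [pow_two, show x 0 = x0 from rfl]; group
        _ = x1 * x1 := by rw [hinv, mul_inv_cancel, one_mul, hsq j (by omega) hj]
    · obtain ⟨hs, hσ⟩ := conj_two ⟨i, by omega⟩ ⟨j, hj⟩ ⟨hi, hij⟩
      rw [pow_two]
      exact hsqc _ _ hs (by rw [map_mul, hx i (by omega), hx j hj, hσ])
  -- generation modulo the centre
  have hπgen : alternatingGroup (Fin 8) ≤ (gens6 x).map π := by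
    rw [← S0_eq, S0, Subgroup.closure_le]
    rintro _ ⟨k, rfl⟩
    rw [SetLike.mem_coe, sgen_eq]
    refine Subgroup.list_prod_mem _ ?_
    intro z hz
    obtain ⟨i, hi, rfl⟩ := List.mem_map.1 hz
    have hi6 : i < 6 := by
      refine genWords_lt _ ?_ i hi
      rw [List.getD_eq_getElem _ _ (show (k : ℕ) < genWords.length from k.2)]
      exact List.getElem_mem _
    exact ⟨x i, Subgroup.subset_closure ⟨i, hi6, rfl⟩, hx i hi6⟩
  have hsquare : x1 * x1 = e := by
    rcases (hker _).1 (show π (x1 * x1) = 1 by rw [map_mul, hx1]; decide +kernel) with h | h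
    · exfalso
      have hR : Rels (1 : H) x :=
        ⟨one_mul 1, fun g => by simp, hx03, fun i a b => (hsq i a b).trans h, hnext,
          fun i j a b => (hfar i j a b).trans h⟩
      have hle := card_gens6_le hR
      have hb : e ∉ gens6 x := by
        intro he
        let f := π.comp (gens6 x).subtype
        have h20 : 20160 ≤ Nat.card f.range := by
          rw [MonoidHom.range_comp, Subgroup.range_subtype]
          refine le_trans (le_of_eq ?_) (Subgroup.card_le_of_le hπgen)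
          rw [nat_card_alternatingGroup, Nat.card_fin]; rfl
        have hk := f.ker.card_mul_index
        rw [Subgroup.index_ker] at hk
        have h2 : 2 ≤ Nat.card f.ker := Finite.one_lt_card_iff_nontrivial.2
          ⟨⟨⟨⟨e, he⟩, (hker e).2 (Or.inr rfl)⟩, 1, fun c => he1 (congrArg (fun z : f.ker => ((z : gens6 x) : H)) c)⟩⟩
        nlinarith
      refine hns (gens6 x) ⟨?_, ?_⟩
      · intro a b hab
        obtain ⟨⟨a1, ha1⟩, ⟨a2, ha2⟩⟩ := a
        obtain ⟨⟨b1, hb1⟩, ⟨b2, hb2⟩⟩ := b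
        simp only at hab
        have hm : b1⁻¹ * a1 ∈ Subgroup.center H ⊓ gens6 x := by
          refine ⟨(Subgroup.center H).mul_mem ((Subgroup.center H).inv_mem hb1) ha1, ?_⟩
          rw [show b1⁻¹ * a1 = b2 * a2⁻¹ by rw [eq_mul_inv_iff_mul_eq, mul_assoc, hab, inv_mul_cancel_left]]
          exact (gens6 x).mul_mem hb2 ((gens6 x).inv_mem ha2)
        have h1 : b1⁻¹ * a1 = 1 := by
          rcases (show b1⁻¹ * a1 = 1 ∨ b1⁻¹ * a1 = e from (hker _).1 (by
            show ((φ (QuotientGroup.mk' _ _) : alternatingGroup (Fin 8)) : Equiv.Perm (Fin 8)) = 1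
            rw [QuotientGroup.mk'_apply, (QuotientGroup.eq_one_iff _).2 hm.1, map_one, OneMemClass.coe_one])) with c | c
          · exact c
          · exact absurd (c ▸ hm.2) hb
        have e1 := (inv_mul_eq_one.1 h1).symm
        subst e1
        have e2 := mul_left_cancel hab
        subst e2
        rfl
      · intro g
        obtain ⟨l, hl, hlg⟩ := hπgen (show π g ∈ alternatingGroup (Fin 8) from
          (φ (QuotientGroup.mk' _ g)).2)
        rcases hfib l g hlg with c | c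
        · exact ⟨(⟨1, one_mem _⟩, ⟨g, c ▸ hl⟩), one_mul g⟩
        · exact ⟨(⟨e, heC⟩, ⟨l, hl⟩), (hce l).symm.trans c.symm⟩
    · exact h
  refine ⟨x, heo, hcz, ⟨hee, hce, hx03, fun i a b => (hsq i a b).trans hsquare, hnext,
    fun i j a b => (hfar i j a b).trans hsquare⟩, ?_⟩
  rw [eq_top_iff]
  intro g _
  have he : e ∈ gens6 x := hsquare ▸ mul_mem (Subgroup.subset_closure ⟨1, by norm_num, rfl⟩)
    (Subgroup.subset_closure ⟨1, by norm_num, rfl⟩)
  obtain ⟨l, hl, hlg⟩ := hπgen (show π g ∈ alternatingGroup (Fin 8) from (φ (QuotientGroup.mk' _ g)).2)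
  rcases hfib l g hlg with c | c <;> subst c
  · exact hl
  · exact mul_mem hl he

/-- Two non-split double covers are isomorphic, the centres corresponding. -/
theorem cover_unique {A B : Type*} [Group A] [Group B] [Finite A] [Finite B]
    (hA : Cfsg.IsNonsplitDoubleCover A (alternatingGroup (Fin 8)))
    (hB : Cfsg.IsNonsplitDoubleCover B (alternatingGroup (Fin 8))) :
    Nonempty (A ≃* B) := by
  classical
  obtain ⟨cA, e, x, -, -, rA, gA⟩ := exists_lifts hA
  obtain ⟨cB, f, y, -, -, rB, gB⟩ := exists_lifts hB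
  let p : ℕ → A × B := fun i => (x i, y i)
  let D := gens6 p
  haveI : Finite D := inferInstance
  let z : A × B := (e, f)
  have hz : z ∈ D := by
    have h1 : p 1 * p 1 = z := Prod.ext (rA.sq 1 le_rfl (by norm_num)) (rB.sq 1 le_rfl (by norm_num))
    exact h1 ▸ mul_mem (Subgroup.subset_closure ⟨1, by norm_num, rfl⟩) (Subgroup.subset_closure ⟨1, by norm_num, rfl⟩)
  let N := Subgroup.zpowers (⟨z, hz⟩ : D)
  haveI : N.Normal := by
    refine ⟨fun n hn g => ?_⟩
    obtain ⟨k, rfl⟩ := hn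
    have : Commute g (⟨z, hz⟩ : D) := Subtype.ext (Prod.ext (rA.central _) (rB.central _))
    show g * (⟨z, hz⟩ : D) ^ k * g⁻¹ ∈ N
    rw [(this.zpow_right k).eq, mul_inv_cancel_right]
    exact zpow_mem (Subgroup.mem_zpowers _) k
  let q : ℕ → D ⧸ N := fun i => if hi : i < 6 then QuotientGroup.mk ⟨p i, Subgroup.subset_closure ⟨i, hi, rfl⟩⟩ else 1
  have hN : ∀ (d : D), (d : A × B) = z → (QuotientGroup.mk d : D ⧸ N) = 1 := fun d hd => by
    rw [QuotientGroup.eq_one_iff]
    exact (Subtype.ext hd : d = ⟨z, hz⟩) ▸ Subgroup.mem_zpowers _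
  have hq : ∀ i, ∀ hi : i < 6, q i = QuotientGroup.mk ⟨p i, Subgroup.subset_closure ⟨i, hi, rfl⟩⟩ :=
    fun i hi => dif_pos hi
  have hR : Rels 1 q := by
    refine ⟨one_mul 1, fun g => by simp, ?_, fun i a b => ?_, fun i b => ?_, fun i j a b => ?_⟩
    · rw [hq 0 (by norm_num), ← QuotientGroup.mk_pow, QuotientGroup.eq_one_iff]
      convert one_mem N
      exact Subtype.ext (Prod.ext rA.cube rB.cube)
    · rw [hq i b, ← QuotientGroup.mk_mul]
      exact hN _ (Prod.ext (rA.sq i a b) (rB.sq i a b))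
    · rw [hq i (by omega), hq (i + 1) b, ← QuotientGroup.mk_mul, ← QuotientGroup.mk_pow, QuotientGroup.eq_one_iff]
      convert one_mem N
      exact Subtype.ext (Prod.ext (rA.next i b) (rB.next i b))
    · rw [hq i (by omega), hq j b, ← QuotientGroup.mk_mul, ← QuotientGroup.mk_pow]
      exact hN _ (Prod.ext (rA.far i j a b) (rB.far i j a b))
  have htop : gens6 q = ⊤ := by
    rw [eq_top_iff]
    rintro w -
    obtain ⟨⟨d, hd⟩, rfl⟩ := QuotientGroup.mk'_surjective N w
    induction hd using Subgroup.closure_induction with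
    | mem u hu =>
      obtain ⟨i, hi, rfl⟩ := hu
      exact Subgroup.subset_closure ⟨i, hi, hq i hi⟩
    | one => exact map_one (QuotientGroup.mk' N) ▸ one_mem _
    | mul u v hu hv ihu ihv =>
      rw [show (⟨u * v, _⟩ : D) = ⟨u, hu⟩ * ⟨v, hv⟩ from rfl, map_mul]
      exact mul_mem ihu ihv
    | inv u hu ihu =>
      rw [show (⟨u⁻¹, _⟩ : D) = (⟨u, hu⟩ : D)⁻¹ from rfl, map_inv]
      exact inv_mem ihu
  have hQ : Nat.card (D ⧸ N) ≤ 20160 := by
    have := card_gens6_le hR
    rwa [htop, Subgroup.card_top] at this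
  have hN2 : Nat.card N ≤ 2 := by
    rw [Nat.card_zpowers]
    exact orderOf_le_of_pow_eq_one (by norm_num) (Subtype.ext (Prod.ext (by simpa [pow_two] using rA.e2)
      (by simpa [pow_two] using rB.e2)))
  have hD : Nat.card D ≤ 40320 := by
    rw [← N.card_mul_index]
    exact (Nat.mul_le_mul hN2 hQ).trans (by norm_num)
  have hs1 : Function.Surjective ((MonoidHom.fst A B).comp D.subtype) := by
    rw [← MonoidHom.range_eq_top, eq_top_iff, ← gA]
    refine (Subgroup.closure_le _).2 ?_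
    rintro _ ⟨i, hi, rfl⟩
    exact ⟨⟨p i, Subgroup.subset_closure ⟨i, hi, rfl⟩⟩, rfl⟩
  have hs2 : Function.Surjective ((MonoidHom.snd A B).comp D.subtype) := by
    rw [← MonoidHom.range_eq_top, eq_top_iff, ← gB]
    refine (Subgroup.closure_le _).2 ?_
    rintro _ ⟨i, hi, rfl⟩
    exact ⟨⟨p i, Subgroup.subset_closure ⟨i, hi, rfl⟩⟩, rfl⟩
  have b1 := (Nat.bijective_iff_surjective_and_card _).2 ⟨hs1, le_antisymm (hD.trans cA.ge)
    (Nat.card_le_card_of_surjective _ hs1)⟩
  have b2 := (Nat.bijective_iff_surjective_and_card _).2 ⟨hs2, le_antisymm (hD.trans cB.ge)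
    (Nat.card_le_card_of_surjective _ hs2)⟩
  exact ⟨(MulEquiv.ofBijective _ b1).symm.trans (MulEquiv.ofBijective _ b2)⟩

end CfsgLib.Sporadic.McLUnique
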