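import Cfsg.Agent.Lib.Sporadic.McLUnique.Local
import Cfsg.Agent.Lib.Involution.Dihedral
import Cfsg.Prelude.Def_CaseTheorems
import Cfsg.Agent.S0215

/-!
# Involutions of a group with the centraliser of McLaughlin's group

Either the involution is isolated, or all involutions are conjugate and some element normalising the four-group
of two commuting involutions has a determined action on both elementary abelian subgroups of order sixteen.
-/

set_option autoImplicit false
set_option maxRecDepth 100000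

namespace CfsgLib.Sporadic.McLUnique

open CfsgLib.Sporadic.OutCert CfsgLib.Sporadic.OutCert.McL

attribute [local irreducible] lk pkF allF compK oneK ka kai kb gTab twoTree fixB cgKeys eKeys cvKeys cvW classW
  xKey basW centW letterW lKeys nAct lTab eNW stabW s2Tab

theorem tB_mem_S2c : tB ∈ S2c := by
  obtain ⟨g, hg, hk⟩ := twoCert.exists_key hw twoEl_rep four_ok.2.1
  obtain ⟨s, hs, hsg⟩ := (S2c_map.symm ▸ hg : g ∈ S2c.map ((H.subtype).comp C0.subtype))
  have e : pr s = pr tB := by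
    have h1 : pr s = g := hsg
    rw [h1]
    exact (rep_key hw g).inj (hk ▸ rep_tB)
  have : s = tB := Subtype.ext (Subtype.ext e)
  exact this ▸ hs

theorem xB_ne_one : xB ≠ 1 := fun e => by
  have h := (key_cw xW).trans (congrArg (fun z => key 9 (pr z)) e)
  rw [t_key.2.1] at h
  have hne : (xKey == oneK 9 275) = false := t_key.2.2.2.2.2.1
  rw [beq_eq_false_iff_ne] at hne
  exact hne (h.trans key_one.symm)

theorem xB_ne_tB : xB ≠ tB := fun e => by
  have h := (key_cw xW).trans ((congrArg (fun z => key 9 (pr z)) e).trans (key_cw tW).symm)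
  rw [t_key.2.1, t_key.1] at h
  have hne : (xKey == kb) = false := t_key.2.2.2.2.2.2
  rw [beq_eq_false_iff_ne] at hne
  exact hne h

theorem tB_ne_one : tB ≠ 1 := fun e => hB_ne_one (tB_val ▸ congrArg Subtype.val e)

/-- A group with the centraliser of an involution of McLaughlin's group. -/
structure Setting (G : Type*) [Group G] where
  /-- The involution. -/
  t : G
  /-- The isomorphism onto its centraliser. -/
  f : C0 →* G
  inj : Function.Injective f
  range_eq : f.range = Subgroup.centralizer ({t} : Set G)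
  map_t : f tB = t

variable {G : Type*} [Group G] (S : Setting G)

theorem Setting.t_comm (c : C0) : S.f c * S.t = S.t * S.f c := by
  rw [← S.map_t, ← map_mul, ← map_mul, tB_central]

theorem Setting.pre {g : G} (h : g * S.t = S.t * g) : ∃ c, S.f c = g :=
  (show g ∈ S.f.range from S.range_eq.symm ▸ Subgroup.mem_centralizer_singleton_iff.2 h)

theorem Setting.t_sq : S.t * S.t = 1 := by rw [← S.map_t, ← map_mul, tB_sq, map_one]

theorem Setting.t_ne : S.t ≠ 1 := fun e => tB_ne_one (S.inj (by rw [S.map_t, e, map_one]))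

theorem Setting.orderOf_t : orderOf S.t = 2 := by
  haveI : Fact (Nat.Prime 2) := ⟨Nat.prime_two⟩
  exact orderOf_eq_prime (by rw [pow_two]; exact S.t_sq) S.t_ne

theorem Setting.exists_sylow [Finite G] : ∃ P : Sylow 2 G, (P : Subgroup G) = S2c.map S.f := by
  classical
  haveI : Fact (Nat.Prime 2) := ⟨Nat.prime_two⟩
  have hS : IsPGroup 2 (S2c.map S.f) := (IsPGroup.of_card (n := 7) (by rw [card_S2c]; norm_num)).map _
  obtain ⟨P, hP⟩ := hS.exists_le_sylow
  refine ⟨P, ?_⟩
  have hle : S2c ≤ (P : Subgroup G).comap S.f := Subgroup.map_le_iff_le_comap.1 hP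
  have hcomap : (P : Subgroup G).comap S.f = S2c := by
    refine (Subgroup.eq_of_le_of_card_ge hle ?_).symm
    obtain ⟨k, hk⟩ := IsPGroup.iff_card.1 (P.2.comap_of_injective S.f S.inj)
    have hd := Subgroup.card_subgroup_dvd_card ((P : Subgroup G).comap S.f)
    rw [card_C0_eq, hk, show 40320 = 2 ^ 7 * 315 by norm_num] at hd
    have h2 : 2 ^ k ∣ 2 ^ 7 :=
      (Nat.Coprime.pow_left k (by norm_num : Nat.Coprime 2 315)).dvd_of_dvd_mul_right hd
    rw [hk, card_S2c]
    exact Nat.le_of_dvd (by norm_num) h2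
  have htP : S.t ∈ (P : Subgroup G) := hP ⟨tB, tB_mem_S2c, S.map_t⟩
  have hcen : ∀ g ∈ (P : Subgroup G), g * S.t = S.t * g := by
    haveI : Nontrivial (P : Subgroup G) :=
      ⟨⟨⟨S.t, htP⟩, 1, fun e => S.t_ne (congrArg Subtype.val e)⟩⟩
    haveI := P.2.center_nontrivial
    have h2 : 2 ∣ Nat.card (Subgroup.center (P : Subgroup G)) := by
      obtain ⟨k, hk⟩ := IsPGroup.iff_card.1 (P.2.to_subgroup (Subgroup.center (P : Subgroup G)))
      rw [hk]
      rcases k with _ | k
      · exact absurd hk (Finite.one_lt_card).ne'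
      · exact dvd_pow_self 2 k.succ_ne_zero
    obtain ⟨z, hz⟩ := exists_prime_orderOf_dvd_card' 2 h2
    have hzc : ∀ g ∈ (P : Subgroup G), g * ((z : (P : Subgroup G)) : G) = ((z : (P : Subgroup G)) : G) * g :=
      fun g hg => congrArg Subtype.val (Subgroup.mem_center_iff.1 z.2 ⟨g, hg⟩)
    obtain ⟨c, hc⟩ := S.pre (hzc _ htP).symm
    have hcS : c ∈ S2c := hcomap ▸ (show S.f c ∈ (P : Subgroup G) from hc ▸ (z : (P : Subgroup G)).2)
    have hz' : ((z : (P : Subgroup G)) : G) ^ 2 = 1 ∧ ((z : (P : Subgroup G)) : G) ≠ 1 := by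
      have ho : orderOf ((z : (P : Subgroup G)) : G) = 2 := by rw [Subgroup.orderOf_coe, Subgroup.orderOf_coe, hz]
      exact ⟨orderOf_dvd_iff_pow_eq_one.1 ho.dvd, fun e => by rw [e, orderOf_one] at ho; omega⟩
    have hc2 : c * c = 1 := S.inj (by rw [map_mul, hc, map_one, ← pow_two, hz'.1])
    rcases S2c_center hcS hc2 (fun s hs => S.inj (by
      rw [map_mul, map_mul, hc]; exact hzc _ (hP ⟨s, hs, rfl⟩))) with h | h
    · exact absurd (by rw [← hc, h, map_one]) hz'.2
    · rw [h, S.map_t] at hc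
      exact fun g hg => hc ▸ hzc g hg
  refine le_antisymm (fun g hg => ?_) hP
  obtain ⟨c, hc⟩ := S.pre (hcen g hg)
  exact ⟨c, hcomap ▸ (show S.f c ∈ (P : Subgroup G) from hc.symm ▸ hg), hc⟩

theorem Setting.dichotomy [Finite G] :
    Subgroup.centralizer ({S.t} : Set G) ⊔ Cfsg.oddCore G = ⊤ ∨ ∃ g, g * S.t * g⁻¹ = S.f xB := by
  classical
  obtain ⟨P, hP⟩ := S.exists_sylow
  have htP : S.t ∈ P := show S.t ∈ (P : Subgroup G) from hP ▸ ⟨tB, tB_mem_S2c, S.map_t⟩
  by_cases hiso : ∀ g : G, g * S.t * g⁻¹ ∈ P → g * S.t * g⁻¹ = S.t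
  · left
    obtain ⟨N, hN, hodd, hcomm⟩ := Cfsg.Agent.S0215.result P S.t S.orderOf_t htP hiso
    have hle : N ≤ Cfsg.oddCore G := le_sSup ⟨hN, Nat.coprime_two_right.2 hodd⟩
    rw [eq_top_iff]
    intro g _
    have hm : S.t * (g * S.t * g⁻¹) ∈ N := by
      have := hcomm g
      rw [inv_eq_of_mul_eq_one_right S.t_sq] at this
      simpa [mul_assoc] using this
    have ho : Odd (orderOf (S.t * (g * S.t * g⁻¹))) := by
      refine Odd.of_dvd_nat hodd ?_
      have := orderOf_dvd_natCard (⟨_, hm⟩ : N)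
      rwa [← Subgroup.orderOf_coe] at this
    obtain ⟨d, hd, hdt⟩ := CfsgLib.Involution.Dihedral.exists_conj_of_odd S.orderOf_t
      (by rw [show g * S.t * g⁻¹ = MulAut.conj g S.t from rfl, MulEquiv.orderOf_eq, S.orderOf_t]) ho
    have hc : d⁻¹ * g ∈ Subgroup.centralizer ({S.t} : Set G) := by
      rw [Subgroup.mem_centralizer_singleton_iff]
      calc d⁻¹ * g * S.t = d⁻¹ * (g * S.t * g⁻¹) * g := by group
        _ = d⁻¹ * (d * S.t * d⁻¹) * g := by rw [hdt]
        _ = _ := by group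
    have := Subgroup.mul_mem_sup (hle ((Subgroup.zpowers_le.2 hm) hd)) hc
    rw [mul_inv_cancel_left, sup_comm] at this
    exact this
  · right
    push Not at hiso
    obtain ⟨g, hg, hne⟩ := hiso
    obtain ⟨c, hcS, hc⟩ := Subgroup.mem_map.1 (show g * S.t * g⁻¹ ∈ S2c.map S.f from hP ▸ hg)
    have h2 : c * c = 1 := S.inj (by rw [map_mul, hc, map_one, conj_mul, S.t_sq, mul_one, mul_inv_cancel])
    rcases S2c_class hcS h2 with h | h | ⟨d, hd⟩
    · rw [h, map_one] at hc
      exact absurd (mul_eq_left.1 (mul_inv_eq_one.1 hc.symm)) S.t_ne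
    · rw [h, S.map_t] at hc
      exact absurd hc.symm hne
    · refine ⟨S.f d * g, ?_⟩
      rw [← hd, map_mul, map_mul, map_inv, hc]
      group

theorem Setting.one_class [Finite G] (hx : ∃ g, g * S.t * g⁻¹ = S.f xB) (u : G) (hu : orderOf u = 2) :
    ∃ g, g * S.t * g⁻¹ = u := by
  classical
  haveI : Fact (Nat.Prime 2) := ⟨Nat.prime_two⟩
  obtain ⟨P, hP⟩ := S.exists_sylow
  obtain ⟨Q, hQ⟩ := (IsPGroup.of_card (n := 1) (by rw [Nat.card_zpowers, hu, pow_one]) :
    IsPGroup 2 (Subgroup.zpowers u)).exists_le_sylow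
  obtain ⟨k, hk⟩ := MulAction.exists_smul_eq G Q P
  have hm : k * u * k⁻¹ ∈ (P : Subgroup G) := by
    rw [← hk, Sylow.smul_def, Sylow.pointwise_smul_def]
    exact ⟨u, hQ (Subgroup.mem_zpowers u), rfl⟩
  obtain ⟨c, hcS, hc⟩ := Subgroup.mem_map.1 (hP ▸ hm)
  have hu2 : u * u = 1 := by rw [← pow_two, ← hu, pow_orderOf_eq_one]
  have h2 : c * c = 1 := S.inj (by rw [map_mul, hc, map_one, conj_mul, hu2, mul_one, mul_inv_cancel])
  rcases S2c_class hcS h2 with h | h | ⟨d, hd⟩
  · rw [h, map_one] at hc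
    rw [mul_eq_left.1 (mul_inv_eq_one.1 hc.symm), orderOf_one] at hu
    omega
  · refine ⟨k⁻¹, ?_⟩
    rw [← S.map_t, ← h, hc]
    group
  · obtain ⟨g, hg⟩ := hx
    refine ⟨k⁻¹ * (S.f d)⁻¹ * g, ?_⟩
    calc k⁻¹ * (S.f d)⁻¹ * g * S.t * (k⁻¹ * (S.f d)⁻¹ * g)⁻¹
        = k⁻¹ * (S.f d)⁻¹ * (g * S.t * g⁻¹) * S.f d * k := by group
      _ = k⁻¹ * (S.f d)⁻¹ * (S.f d * (k * u * k⁻¹) * (S.f d)⁻¹) * S.f d * k := by
          rw [hg, ← hd, map_mul, map_mul, map_inv, hc]
      _ = u := by group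

/-- An element of the group acts on one of the subgroups by a list of labels. -/
def Setting.GAct (k : Fin 2) (g : G) (p : List ℕ) : Prop :=
  ∀ n < 16, g * S.f (el k n) = S.f (el k (ap p n)) * g

variable {S}

theorem GAct_of_act {k : Fin 2} {c : C0} {p : List ℕ} (h : Act k c p) : S.GAct k (S.f c) p := fun n hn => by
  rw [← map_mul, ← map_mul, h n hn]

theorem gact_one (k : Fin 2) : S.GAct k 1 id16 := fun n hn => by rw [ap_id16 hn, one_mul, mul_one]

theorem gact_mul {k : Fin 2} {g h : G} {p q : List ℕ} (hg : S.GAct k g p) (hh : S.GAct k h q)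
    (hq : ok16 q = true) : S.GAct k (g * h) (cmp p q) := fun n hn => by
  rw [ap_cmp (ok16_spec hq).1 hn, mul_assoc, hh n hn, ← mul_assoc, hg _ ((ok16_spec hq).2 n), mul_assoc]

theorem gact_act {k : Fin 2} {c : C0} {p : List ℕ} (h : S.GAct k (S.f c) p) : Act k c p := fun n hn =>
  S.inj (by rw [map_mul, map_mul, h n hn])

theorem gact_unique {k : Fin 2} {g : G} {p q : List ℕ} (hp : S.GAct k g p) (hq : S.GAct k g q)
    (op : ok16 p = true) (oq : ok16 q = true) : p = q :=
  list16_ext (ok16_spec op).1 (ok16_spec oq).1 fun n hn =>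
    el_inj k ((ok16_spec op).2 n) ((ok16_spec oq).2 n)
      (S.inj (mul_right_cancel ((hp n hn).symm.trans (hq n hn))))

/-- An element fixing the labels of both subgroups lies in their intersection. -/
theorem trivial_act {g : G} (h : ∀ k, S.GAct k g id16) : ∃ n < 4, g = S.f (el 0 n) := by
  have hg : g * S.t = S.t * g := by
    have := h 0 1 (by norm_num)
    rwa [ap_id16 (by norm_num), el_one, S.map_t] at this
  obtain ⟨c, rfl⟩ := S.pre hg
  have hc : ∀ k, ∀ n < 16, c * el k n = el k n * c := fun k n hn => by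
    have := gact_act (h k) n hn
    rwa [ap_id16 hn] at this
  obtain ⟨m, hm, rfl⟩ := comm_el_basis (hc 0)
  refine ⟨m, ?_, rfl⟩
  by_contra h4
  have hh := hc 1 4 (by norm_num)
  have hc' := List.all_eq_true.1 (List.all_eq_true.1 cv_checks.2.2 m (List.mem_range.2 hm)) 4 (by simp)
  simp only [Bool.or_eq_true, Nat.blt_eq, h4, false_or, lt_irrefl, Bool.not_eq_true', beq_eq_false_iff_ne] at hc'
  refine hc' ?_
  rw [key_comp (rep_el 0 hm) (rep_el 1 (by norm_num)), key_comp (rep_el 1 (by norm_num)) (rep_el 0 hm)]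
  exact congrArg (fun z => key 9 (pr z)) hh

/-- An element moving the four-group permutes the two subgroups. -/
theorem move {u : G} (hu : ∀ n < 4, ∃ m < 4, u * S.f (el 0 n) = S.f (el 0 m) * u) (k : Fin 2) :
    ∃ k' : Fin 2, ∀ n < 16, ∃ m < 16, u * S.f (el k n) = S.f (el k' m) * u := by
  classical
  choose! v hv4 hv using hu
  let f : Fin 4 → Fin 4 := fun i => ⟨v i, hv4 i i.2⟩
  have hf : Function.Injective f := fun i j e => by
    have e1 := hv i i.2
    rw [show v i = v j from congrArg Fin.val e, ← hv j j.2] at e1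
    exact Fin.ext (el_inj 0 (i.2.trans (by norm_num)) (j.2.trans (by norm_num)) (S.inj (mul_left_cancel e1)))
  have hcm : ∀ n < 16, ∀ i : Fin 4, u * S.f (el k n) * u⁻¹ * S.f (el 0 i) =
      S.f (el 0 i) * (u * S.f (el k n) * u⁻¹) := by
    intro n hn i
    obtain ⟨j, hj⟩ := (Finite.injective_iff_surjective.1 hf) i
    have e : S.f (el 0 i) = u * S.f (el 0 (j : ℕ)) * u⁻¹ := by
      rw [hv j j.2, show v j = i from congrArg Fin.val hj, mul_inv_cancel_right]
    rw [e, conj_mul, conj_mul]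
    congr 2
    rw [← el_vee j.2 k, ← map_mul, ← map_mul, el_comm k hn (j.2.trans (by norm_num))]
  have hd : ∀ n, ∃ c : C0, n < 16 → S.f c = u * S.f (el k n) * u⁻¹ := fun n => by
    by_cases hn : n < 16
    · obtain ⟨c, hc⟩ := S.pre (g := u * S.f (el k n) * u⁻¹) (by
        have := hcm n hn 1
        rwa [show ((1 : Fin 4) : ℕ) = 1 from rfl, el_one, S.map_t] at this)
      exact ⟨c, fun _ => hc⟩
    · exact ⟨1, fun h => absurd h hn⟩
  choose d hd using hd
  obtain ⟨k', hk'⟩ := classify (d := d) (fun n hn => S.inj (by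
      rw [map_mul, map_mul, hd n hn, ← el_two 0]
      exact hcm n hn 2))
    (fun m hm n hn => S.inj (by
      rw [map_mul, hd m hm, hd n hn, hd _ (Nat.xor_lt_two_pow (n := 4) hm hn), ← el_mul k hm hn, map_mul, conj_mul]))
  refine ⟨k', fun n hn => ?_⟩
  obtain ⟨m, hm, e⟩ := hk' n hn
  exact ⟨m, hm, by rw [← e, hd n hn, inv_mul_cancel_right]⟩

theorem el1_ne_el0 {n : ℕ} (hn : n < 16) : el 1 4 ≠ el 0 n := by
  intro e
  rcases lt_or_ge n 4 with h | h
  · rw [← el_vee h 1] at e
    exact absurd (el_inj 1 (by norm_num) hn e) (by omega)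
  · have hc := List.all_eq_true.1 (List.all_eq_true.1 cv_checks.2.2 n (List.mem_range.2 hn)) 4 (by simp)
    simp only [Bool.or_eq_true, Nat.blt_eq, not_lt.2 h, false_or, lt_irrefl, Bool.not_eq_true',
      beq_eq_false_iff_ne] at hc
    refine hc ?_
    rw [key_comp (rep_el 0 hn) (rep_el 1 (by norm_num)), key_comp (rep_el 1 (by norm_num)) (rep_el 0 hn)]
    exact congrArg (fun z => key 9 (pr z)) (show el 0 n * el 1 4 = el 1 4 * el 0 n by rw [e])

theorem move_inj {u : G} {π : Fin 2 → Fin 2}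
    (h : ∀ k, ∀ n < 16, ∃ m < 16, u * S.f (el k n) = S.f (el (π k) m) * u) : Function.Injective π := by
  classical
  have hne : π 0 ≠ π 1 := by
    intro e
    have h0 := h 0
    choose! v hv16 hv using h0
    let f : Fin 16 → Fin 16 := fun i => ⟨v i, hv16 i i.2⟩
    have hf : Function.Injective f := fun i j ee => by
      have e1 := hv i i.2
      rw [show v i = v j from congrArg Fin.val ee, ← hv j j.2] at e1
      exact Fin.ext (el_inj 0 i.2 j.2 (S.inj (mul_left_cancel e1)))
    obtain ⟨m, hm, em⟩ := h 1 4 (by norm_num)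
    obtain ⟨i, hi⟩ := (Finite.injective_iff_surjective.1 hf) ⟨m, hm⟩
    rw [← e, ← show v i = m from congrArg Fin.val hi, ← hv i i.2] at em
    exact el1_ne_el0 i.2 (S.inj (mul_left_cancel em))
  intro a b hab
  fin_cases a <;> fin_cases b
  · rfl
  · exact absurd hab hne
  · exact absurd hab.symm hne
  · rfl

end CfsgLib.Sporadic.McLUnique
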