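import Cfsg.Agent.Lib.Sporadic.McLUnique.Model

/-!
# The Sylow subgroup and the two normalisers inside the model centraliser
-/

set_option autoImplicit false
set_option maxRecDepth 100000

namespace CfsgLib.Sporadic.McLUnique

open CfsgLib.Sporadic.OutCert CfsgLib.Sporadic.OutCert.McL

attribute [local irreducible] lk pkF allF compK oneK ka kai kb gTab twoTree fixB cgKeys eKeys cvKeys cvW classW
  xKey basW centW letterW lKeys nAct lTab eNW stabW s2Tab

/-! ### The Sylow subgroup -/

/-- The Sylow subgroup of order 128. -/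
noncomputable def S2c : Subgroup C0 := Subgroup.closure {cg 0, cg 1, cg 2}

theorem S2c_map : S2c.map ((H.subtype).comp C0.subtype) = S2 := by
  rw [S2c, MonoidHom.map_closure, S2]
  congr 1
  ext z
  simp only [Set.image_insert_eq, Set.image_singleton, Set.mem_insert_iff, Set.mem_singleton_iff, twoEl,
    Set.mem_ofPred_eq, List.mem_cons, List.not_mem_nil, or_false]
  have e : ∀ j : Fin 7, (H.subtype.comp C0.subtype) (cg j) = wp (centW.getD j []) := fun j => by
    rw [cg, dif_pos j.2]; rfl
  rw [show (H.subtype.comp C0.subtype) (cg 0) = wp s20W from (e 0).trans (by unfold centW; rfl),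
    show (H.subtype.comp C0.subtype) (cg 1) = wp s21W from (e 1).trans (by unfold centW; rfl),
    show (H.subtype.comp C0.subtype) (cg 2) = wp s22W from (e 2).trans (by unfold centW; rfl)]

theorem card_S2c : Nat.card S2c = 128 := by
  rw [← card_S2, ← S2c_map]
  exact Nat.card_congr (Subgroup.equivMapOfInjective _ _
    (Subtype.coe_injective.comp Subtype.coe_injective)).toEquiv

theorem has_key {c : C0} (hc : c ∈ S2c) : twoTree.has (key 9 (pr c)) = true :=
  twoCert.has_key hw twoEl_rep (show pr c ∈ S2 from S2c_map ▸ ⟨c, hc, rfl⟩)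

theorem s2_checks :
    twoTree.every (fun k _ _ _ => !(compK 9 275 k k == oneK 9 275) || k == oneK 9 275 || k == kb ||
      s2Tab.any fun e => e.1 == k && compK 9 275 (ck e.2) k == compK 9 275 xKey (ck e.2)) = true ∧
    twoTree.every (fun k _ _ _ => !(compK 9 275 k k == oneK 9 275 && (twoGens.all fun g =>
      compK 9 275 g k == compK 9 275 k g)) || k == oneK 9 275 || k == kb) = true := by
  decide +kernel

theorem eq_one_or_tB {c : C0} (h : key 9 (pr c) = oneK 9 275 ∨ key 9 (pr c) = kb) : c = 1 ∨ c = tB :=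
  h.imp (eq_of_rep (rep_key hw _) rep_one') (eq_of_rep (rep_key hw _) rep_tB)

theorem sq_key {c : C0} (h : c * c = 1) : compK 9 275 (key 9 (pr c)) (key 9 (pr c)) = oneK 9 275 := by
  rw [key_comp (rep_key hw _) (rep_key hw _), show pr c * pr c = pr (c * c) from rfl, h]
  exact key_one.symm

theorem S2c_class {c : C0} (hc : c ∈ S2c) (h2 : c * c = 1) :
    c = 1 ∨ c = tB ∨ ∃ d : C0, d * c * d⁻¹ = xB := by
  obtain ⟨p, g, d, h⟩ := Tree.sound_of_has s2_checks.1 (has_key hc)
  rw [sq_key h2, beq_self_eq_true, Bool.not_true, Bool.false_or] at h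
  simp only [Bool.or_eq_true, beq_iff_eq, List.any_eq_true, Bool.and_eq_true] at h
  rcases h with h | ⟨e, -, he1, he2⟩
  · rcases eq_one_or_tB h with h | h
    · exact Or.inl h
    · exact Or.inr (Or.inl h)
  · refine Or.inr (Or.inr ⟨cw e.2, ?_⟩)
    have hh : cw e.2 * c = xB * cw e.2 :=
      eq_of_rep (rep_mul (rep_cw _) (rep_key hw _)) (rep_mul rep_xB (rep_cw _)) he2
    rw [hh, mul_inv_cancel_right]

theorem S2c_center {c : C0} (hc : c ∈ S2c) (h2 : c * c = 1) (hcen : ∀ s ∈ S2c, s * c = c * s) :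
    c = 1 ∨ c = tB := by
  obtain ⟨p, g, d, h⟩ := Tree.sound_of_has s2_checks.2 (has_key hc)
  have hall : (twoGens.all fun g => compK 9 275 g (key 9 (pr c)) == compK 9 275 (key 9 (pr c)) g) = true := by
    simp only [twoGens, List.all_cons, List.all_nil, Bool.and_true, Bool.and_eq_true, beq_iff_eq]
    have key : ∀ j : Fin 7, (j : ℕ) < 3 → compK 9 275 (wk (centW.getD j [])) (key 9 (pr c)) =
        compK 9 275 (key 9 (pr c)) (wk (centW.getD j [])) := by
      intro j hj
      have hm : cg j ∈ S2c := Subgroup.subset_closure (by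
        rcases j with ⟨j, _⟩
        rcases j with _ | _ | _ | j
        · exact Or.inl rfl
        · exact Or.inr (Or.inl rfl)
        · exact Or.inr (Or.inr rfl)
        · exact absurd hj (by simp))
      have e : pr (cg j) = wp (centW.getD j []) := by
        rw [cg, dif_pos j.2]; rfl
      rw [key_comp (rep_wp _) (rep_key hw _), key_comp (rep_key hw _) (rep_wp _), ← e]
      exact congrArg (fun z => CfsgLib.Sporadic.OutCert.key 9 (pr z)) (hcen _ hm)
    have k0 := key 0 (by decide)
    have k1 := key 1 (by decide)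
    have k2 := key 2 (by decide)
    simp only [centW, Fin.val_zero, Fin.val_one, Fin.val_two, List.getD_cons_zero, List.getD_cons_succ] at k0 k1 k2
    exact ⟨k0, k1, k2⟩
  rw [sq_key h2, beq_self_eq_true, Bool.true_and, hall, Bool.not_true, Bool.false_or, Bool.or_eq_true,
    beq_iff_eq, beq_iff_eq] at h
  exact eq_one_or_tB h

theorem card_C0_eq : Nat.card C0 = 40320 := Nat.dvd_antisymm card_C0.1 card_C0.2

/-- Every involution other than the central one is conjugate to the second one. -/
theorem involution_class {c : C0} (h2 : c * c = 1) (h1 : c ≠ 1) (ht : c ≠ tB) : ∃ d : C0, d * c * d⁻¹ = xB := by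
  haveI : Fact (Nat.Prime 2) := ⟨Nat.prime_two⟩
  have hp : Nat.card S2c = 2 ^ (Nat.card C0).factorization 2 := by
    rw [card_S2c, card_C0_eq, show 40320 = 2 ^ 7 * 315 by norm_num,
      Nat.factorization_mul (by norm_num) (by norm_num), Finsupp.add_apply,
      Nat.Prime.factorization_pow Nat.prime_two, Finsupp.single_eq_same,
      Nat.factorization_eq_zero_of_not_dvd (by norm_num)]
    norm_num
  have hpg : IsPGroup 2 (Subgroup.zpowers c) := by
    refine IsPGroup.of_card (n := 1) ?_
    rw [Nat.card_zpowers, orderOf_eq_prime (by rw [pow_two]; exact h2) h1, pow_one]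
  obtain ⟨Q, hQ⟩ := hpg.exists_le_sylow
  obtain ⟨g, hg⟩ := MulAction.exists_smul_eq C0 Q (Sylow.ofCard _ hp)
  have hm : g * c * g⁻¹ ∈ S2c := by
    have e : ((g • Q : Sylow 2 C0) : Subgroup C0) = S2c := by rw [hg, Sylow.coe_ofCard]
    rw [← e, Sylow.smul_def, Sylow.pointwise_smul_def]
    exact ⟨c, hQ (Subgroup.mem_zpowers c), rfl⟩
  rcases S2c_class hm (by rw [conj_mul, h2, mul_one, mul_inv_cancel]) with h | h | ⟨d, hd⟩
  · exact absurd (mul_eq_left.1 (mul_inv_eq_one.1 h)) h1
  · refine absurd ?_ ht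
    calc c = g⁻¹ * (g * c * g⁻¹) * g := by group
      _ = tB := by rw [h, tB_central, inv_mul_cancel_right]
  · exact ⟨d * g, by rw [← hd]; group⟩

/-! ### The normalisers -/

/-- A letter inside the centraliser. -/
noncomputable def lt' (j : ℕ) : C0 := cw (letterW.getD j [])

/-- The word in the generators of a word in the letters. -/
def lW (l : List ℕ) : List ℕ := l.flatMap fun j => letterW.getD j []

theorem cw_lW (l : List ℕ) : cw (lW l) = (l.map lt').prod := cw_flatMap _ l

theorem n_facts : lKeys.take 6 = letterW.map ck ∧ letterW.length = 6 ∧ lKeys.length = 7 ∧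
    (∀ k : Fin 2, ((nLet.getD k []).all fun j => Nat.blt j 6) = true ∧
      ((nAct.getD k []).all ok16) = true ∧ (nLet.getD k []).length = 4 ∧ (nAct.getD k []).length = 4 ∧
      ∀ j : Fin 4, ∀ n : Fin 16, compK 9 275 (lKeys.getD ((nLet.getD k []).getD j 0) 0) (eK k n) =
        compK 9 275 (eK k (ap ((nAct.getD k []).getD j []) n)) (lKeys.getD ((nLet.getD k []).getD j 0) 0)) := by
  decide +kernel

theorem rep_lt' {j : ℕ} (hj : j < 6) : Rep 9 275 (lKeys.getD j 0) (pr (lt' j)) := by
  have e : lKeys.getD j 0 = ck (letterW.getD j []) := by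
    have h1 : (lKeys.take 6).getD j 0 = lKeys.getD j 0 := by
      rw [List.getD_eq_getElem?_getD, List.getD_eq_getElem?_getD, List.getElem?_take_of_lt hj]
    rw [← h1, n_facts.1, List.getD_eq_getElem _ _ (by rw [List.length_map, n_facts.2.1]; exact hj),
      List.getElem_map, List.getD_eq_getElem _ _ (lt_of_lt_of_eq hj n_facts.2.1.symm)]
  exact e ▸ rep_cw _

/-- The action of a word in the normalising letters, by position. -/
def actW (k : Fin 2) (l : List ℕ) : List ℕ := l.foldr (fun j a => cmp ((nAct.getD k []).getD j []) a) id16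

/-- A word in the normalising letters, by position. -/
noncomputable def nw (k : Fin 2) (l : List ℕ) : C0 := (l.map fun j => lt' ((nLet.getD k []).getD j 0)).prod

theorem ok16_nAct (k : Fin 2) {j : ℕ} (hj : j < 4) : ok16 ((nAct.getD k []).getD j []) = true := by
  rw [List.getD_eq_getElem _ _ (lt_of_lt_of_eq hj (n_facts.2.2.2 k).2.2.2.1.symm)]
  exact List.all_eq_true.1 (n_facts.2.2.2 k).2.1 _ (List.getElem_mem _)

theorem act_letter (k : Fin 2) {j : ℕ} (hj : j < 4) :
    Act k (lt' ((nLet.getD k []).getD j 0)) ((nAct.getD k []).getD j []) := fun n hn => by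
  have h6 : (nLet.getD k []).getD j 0 < 6 := by
    rw [List.getD_eq_getElem _ _ (lt_of_lt_of_eq hj (n_facts.2.2.2 k).2.2.1.symm)]
    simpa using List.all_eq_true.1 (n_facts.2.2.2 k).1 _ (List.getElem_mem (lt_of_lt_of_eq hj (n_facts.2.2.2 k).2.2.1.symm))
  exact eq_of_rep (rep_mul (rep_lt' h6) (rep_el k hn))
    (rep_mul (rep_el k ((ok16_spec (ok16_nAct k hj)).2 n)) (rep_lt' h6))
    ((n_facts.2.2.2 k).2.2.2.2 ⟨j, hj⟩ ⟨n, hn⟩)

theorem act_nw (k : Fin 2) : ∀ l : List ℕ, (∀ j ∈ l, j < 4) → Act k (nw k l) (actW k l) ∧ ok16 (actW k l) = true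
  | [], _ => ⟨Act.one k, show ok16 id16 = true by decide⟩
  | j :: l, h => by
    obtain ⟨ha, ho⟩ := act_nw k l fun i hi => h i (List.mem_cons_of_mem _ hi)
    have hj := h j List.mem_cons_self
    refine ⟨?_, ok16_cmp (ok16_nAct k hj) ho⟩
    show Act k (lt' _ * nw k l) (cmp _ _)
    exact (act_letter k hj).mul ha ho

/-- The actions of the normaliser. -/
def lPerms (k : Fin 2) : List (List ℕ) := (lTab.getD k []).map Prod.fst

theorem l_facts : ∀ k : Fin 2, (lTab.getD k []).length = 168 ∧ (lPerms k).Nodup ∧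
    ((lTab.getD k []).all fun e => (e.2.all fun j => Nat.blt j 4) && actW k e.2 == e.1) = true ∧
    (lPerms k).contains id16 = true ∧
    ((lPerms k).all fun p => ((List.range 4).all fun j =>
      (lPerms k).contains (cmp ((nAct.getD k []).getD j []) p))) = true ∧
    ((eNW.getD k []).all fun l => l.all fun j => Nat.blt j 4) = true ∧ (eNW.getD k []).length = 4 ∧
    ∀ b : Fin 4, ck (lW (((eNW.getD k []).getD b []).map fun j => (nLet.getD k []).getD j 0)) = eK k (2 ^ (b : ℕ)) := by
  decide +kernel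

theorem stab_facts : ∀ k : Fin 2, (stabW.getD k []).length = 15 ∧
    ((stabW.getD k []).all fun e => ck (e.1 ++ e.2) == oneK 9 275) = true ∧
    ((List.range 15).all fun i => (List.range 15).all fun j => i == j ||
      (List.range 4).any fun b => (List.range 16).all fun m =>
        !(compK 9 275 (ck (((stabW.getD k []).getD i ([], [])).2 ++ ((stabW.getD k []).getD j ([], [])).1)) (eK k (2 ^ b)) ==
          compK 9 275 (eK k m) (ck (((stabW.getD k []).getD i ([], [])).2 ++ ((stabW.getD k []).getD j ([], [])).1)))) = true := by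
  decide +kernel

/-- One of the two elementary abelian subgroups. -/
noncomputable def Esub (k : Fin 2) : Subgroup C0 where
  carrier := {c | ∃ n < 16, c = el k n}
  one_mem' := ⟨0, by norm_num, (el_zero k).symm⟩
  mul_mem' := by
    rintro _ _ ⟨m, hm, rfl⟩ ⟨n, hn, rfl⟩
    exact ⟨_, Nat.xor_lt_two_pow (n := 4) hm hn, el_mul k hm hn⟩
  inv_mem' := by
    rintro _ ⟨m, hm, rfl⟩
    exact ⟨m, hm, inv_eq_of_mul_eq_one_right (el_sq k hm)⟩

/-- Elements normalising one of the two subgroups. -/
noncomputable def Nsub (k : Fin 2) : Subgroup C0 where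
  carrier := {c | ∀ n < 16, ∃ m < 16, c * el k n = el k m * c}
  one_mem' := fun n hn => ⟨n, hn, by rw [one_mul, mul_one]⟩
  mul_mem' := by
    intro a b ha hb n hn
    obtain ⟨m, hm, e⟩ := hb n hn
    obtain ⟨l, hl, e'⟩ := ha m hm
    exact ⟨l, hl, by rw [mul_assoc, e, ← mul_assoc, e', mul_assoc]⟩
  inv_mem' := by
    intro a ha n hn
    classical
    let f : Fin 16 → Fin 16 := fun i => ⟨(ha i i.2).choose, (ha i i.2).choose_spec.1⟩
    have hf : Function.Injective f := fun i j e => by
      have e1 := (ha i i.2).choose_spec.2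
      rw [show (ha i i.2).choose = (ha j j.2).choose from congrArg Fin.val e, ← (ha j j.2).choose_spec.2] at e1
      exact Fin.ext (el_inj k i.2 j.2 (mul_left_cancel e1))
    obtain ⟨i, hi⟩ := (Finite.injective_iff_surjective.1 hf) ⟨n, hn⟩
    have e := (ha i i.2).choose_spec.2
    rw [show (ha i i.2).choose = n from congrArg Fin.val hi] at e
    exact ⟨i, i.2, by rw [inv_mul_eq_iff_eq_mul, ← mul_assoc, e, mul_inv_cancel_right]⟩

/-- The subgroup of the normalising letters. -/
noncomputable def Lsub (k : Fin 2) : Subgroup C0 :=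
  Subgroup.closure {c | ∃ j < 4, c = lt' ((nLet.getD k []).getD j 0)}

theorem Lsub_le (k : Fin 2) : Lsub k ≤ Nsub k := by
  refine (Subgroup.closure_le _).2 ?_
  rintro _ ⟨j, hj, rfl⟩ n hn
  exact ⟨_, (ok16_spec (ok16_nAct k hj)).2 n, act_letter k hj n hn⟩

theorem nw_mem (k : Fin 2) {l : List ℕ} (h : ∀ j ∈ l, j < 4) : nw k l ∈ Lsub k := by
  refine Subgroup.list_prod_mem _ ?_
  intro z hz
  obtain ⟨j, hj, rfl⟩ := List.mem_map.1 hz
  exact Subgroup.subset_closure ⟨j, h j hj, rfl⟩

theorem el_mem (k : Fin 2) {n : ℕ} (hn : n < 16) : el k n ∈ Lsub k := by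
  obtain ⟨-, -, -, -, -, hlt, hlen, hb⟩ := l_facts k
  have hbas : ∀ b : Fin 4, el k (2 ^ (b : ℕ)) ∈ Lsub k := by
    intro b
    have h16 : 2 ^ (b : ℕ) < 16 := by fin_cases b <;> norm_num
    have hl : (eNW.getD k []).getD b [] ∈ eNW.getD k [] := by
      rw [List.getD_eq_getElem _ _ (lt_of_lt_of_eq b.2 hlen.symm)]; exact List.getElem_mem _
    have e : nw k ((eNW.getD k []).getD b []) = el k (2 ^ (b : ℕ)) := by
      refine Eq.trans ?_ (eq_of_rep (rep_cw _) (rep_el k h16) (hb b))
      rw [cw_lW, List.map_map]; rfl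
    rw [← e]
    exact nw_mem k fun j hj => by simpa using List.all_eq_true.1 (List.all_eq_true.1 hlt _ hl) j hj
  have hbits : ∀ n < 16, ∀ b : Fin 4, Nat.testBit n b = true → (n ^^^ 2 ^ (b : ℕ)) < n := by decide
  induction n using Nat.strong_induction_on with
  | _ n ih =>
    rcases Nat.eq_zero_or_pos n with rfl | hpos
    · rw [el_zero]; exact one_mem _
    · have hex : ∀ n < 16, 0 < n → ∃ b : Fin 4, Nat.testBit n b = true := by decide
      obtain ⟨b, hb'⟩ := hex n hn hpos
      have hlt' := hbits n hn b hb'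
      have h16 : 2 ^ (b : ℕ) < 16 := by fin_cases b <;> norm_num
      have e := el_mul k (m := n ^^^ 2 ^ (b : ℕ)) (hlt'.trans hn) h16
      rw [Nat.xor_assoc, Nat.xor_self, Nat.xor_zero] at e
      rw [← e]
      exact mul_mem (ih _ hlt' (hlt'.trans hn)) (hbas b)

theorem card_Lsub_ge (k : Fin 2) : 2688 ≤ Nat.card (Lsub k) := by
  classical
  obtain ⟨hlen, hnd, hw', -, -, -, -, -⟩ := l_facts k
  have hmem : ∀ i : Fin (lTab.getD k []).length, (∀ j ∈ ((lTab.getD k [])[i]).2, j < 4) ∧
      actW k ((lTab.getD k [])[i]).2 = ((lTab.getD k [])[i]).1 := fun i => by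
    have := List.all_eq_true.1 hw' _ (List.getElem_mem i.2)
    simp only [Bool.and_eq_true, List.all_eq_true, Nat.blt_eq, beq_iff_eq] at this
    exact this
  let g : Fin (lTab.getD k []).length × Fin 16 → Lsub k := fun q =>
    ⟨nw k ((lTab.getD k [])[q.1]).2 * el k q.2, mul_mem (nw_mem k (hmem q.1).1) (el_mem k q.2.2)⟩
  have hg : Function.Injective g := by
    rintro ⟨i, m⟩ ⟨j, n⟩ e
    have e' := congrArg Subtype.val e
    have hi := act_nw k _ (hmem i).1
    have hj := act_nw k _ (hmem j).1
    have a1 := hi.1.mul (act_el k m.2) (by decide)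
    have a2 := hj.1.mul (act_el k n.2) (by decide)
    have e'' : nw k ((lTab.getD k [])[i]).2 * el k m = nw k ((lTab.getD k [])[j]).2 * el k n := e'
    rw [e''] at a1
    have hs : ∀ p, ok16 p = true → cmp p id16 = p := fun p hp =>
      list16_ext (ok16_spec (ok16_cmp hp (by decide))).1 (ok16_spec hp).1 fun a ha => by
        rw [ap_cmp (by decide) ha, ap_id16 ha]
    rw [hs _ hi.2, (hmem i).2] at a1
    rw [hs _ hj.2, (hmem j).2] at a2
    have hij : ((lTab.getD k [])[i]).1 = ((lTab.getD k [])[j]).1 :=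
      a1.unique a2 ((hmem i).2 ▸ hi.2) ((hmem j).2 ▸ hj.2)
    obtain rfl : i = j := by
      refine Fin.ext ((hnd.getElem_inj_iff (hi := by simpa [lPerms] using i.2)
        (hj := by simpa [lPerms] using j.2)).1 ?_)
      simpa [lPerms, List.getElem_map] using hij
    exact Prod.ext rfl (Fin.ext (el_inj k m.2 n.2 (mul_left_cancel e'')))
  have := Nat.card_le_card_of_injective g hg
  rw [Nat.card_prod, Nat.card_fin, Nat.card_fin, hlen] at this
  exact this

theorem card_Nsub_le (k : Fin 2) : Nat.card (Nsub k) ≤ 2688 := by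
  classical
  obtain ⟨hlen, hinv, hne⟩ := stab_facts k
  let g : Fin 15 → C0 ⧸ Nsub k := fun i => (cw ((stabW.getD k []).getD i ([], [])).1 : C0)
  have hi' : ∀ i : Fin 15, cw ((stabW.getD k []).getD i ([], [])).2 = (cw ((stabW.getD k []).getD i ([], [])).1)⁻¹ := by
    intro i
    refine (inv_eq_of_mul_eq_one_right ?_).symm
    rw [← cw_append]
    refine eq_of_rep (rep_cw _) rep_one' (beq_iff_eq.1 (List.all_eq_true.1 hinv _ ?_))
    rw [List.getD_eq_getElem _ _ (lt_of_lt_of_eq i.2 hlen.symm)]; exact List.getElem_mem _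
  have hg : Function.Injective g := by
    intro i j e
    have hm := QuotientGroup.eq.1 e
    rw [← hi', ← cw_append] at hm
    have hc := List.all_eq_true.1 (List.all_eq_true.1 hne i (List.mem_range.2 i.2)) j (List.mem_range.2 j.2)
    simp only [Bool.or_eq_true, beq_iff_eq, List.any_eq_true, List.mem_range, List.all_eq_true,
      Bool.not_eq_true', beq_eq_false_iff_ne] at hc
    rcases hc with hc | ⟨b, hb, hc⟩
    · exact Fin.ext hc
    · have h16 : 2 ^ b < 16 := by interval_cases b <;> norm_num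
      obtain ⟨m, hm16, hm'⟩ := hm _ h16
      refine absurd ?_ (hc m hm16)
      rw [key_comp (rep_cw _) (rep_el k h16), key_comp (rep_el k hm16) (rep_cw _)]
      exact congrArg (fun z => key 9 (pr z)) hm'
  have h1 := Nat.card_le_card_of_injective g hg
  rw [Nat.card_fin, ← Subgroup.index_eq_card] at h1
  have h2 := (Nsub k).card_mul_index
  rw [card_C0_eq] at h2
  have h3 : Nat.card (Nsub k) * 15 ≤ 40320 := h2 ▸ Nat.mul_le_mul_left _ h1
  omega

/-- The normaliser acts through the listed maps only. -/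
theorem norm_act {k : Fin 2} {c : C0} (h : ∀ n < 16, ∃ m < 16, c * el k n = el k m * c) :
    ∃ p ∈ lPerms k, ok16 p = true ∧ Act k c p := by
  classical
  have heq : Lsub k = Nsub k :=
    Subgroup.eq_of_le_of_card_ge (Lsub_le k) ((card_Nsub_le k).trans (card_Lsub_ge k))
  have hc : c ∈ Lsub k := heq ▸ h
  obtain ⟨-, -, hw', hid, hclo, -, -, -⟩ := l_facts k
  rw [← Subgroup.mem_toSubmonoid, Lsub, Subgroup.closure_toSubmonoid_of_finite] at hc
  induction hc using Submonoid.closure_induction_left with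
  | one => exact ⟨id16, List.contains_iff_mem.1 hid, by decide, Act.one k⟩
  | mul_left x hx y _ ih =>
    obtain ⟨j, hj, rfl⟩ := hx
    have hy : ∀ n < 16, ∃ m < 16, y * el k n = el k m * y := by
      have hy' : lt' ((nLet.getD k []).getD j 0) * y ∈ Nsub k := h
      exact (Subgroup.mul_mem_cancel_left _ (Lsub_le k (Subgroup.subset_closure ⟨j, hj, rfl⟩))).1 hy'
    obtain ⟨p, hp, op, hact⟩ := ih hy
    exact ⟨_, List.contains_iff_mem.1 (List.all_eq_true.1 (List.all_eq_true.1 hclo p hp) j (List.mem_range.2 hj)),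
      ok16_cmp (ok16_nAct k hj) op, (act_letter k hj).mul hact op⟩

end CfsgLib.Sporadic.McLUnique
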