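import Cfsg.Agent.Lib.Sporadic.OutCert.McL.Main
import Cfsg.Agent.Lib.Sporadic.OutCert.McL.Cent
import Cfsg.Agent.Lib.SmallGroups.LeechMcL
import Cfsg.Agent.Lib.Solvable.Hall
import Cfsg.Agent.S1225
import Cfsg.Agent.S0205

/-!
# A McLaughlin subgroup containing the centraliser of an involution is the whole group

Otherwise it is strongly embedded, so a subgroup of odd order of the McLaughlin group is transitive on its
22275 involutions; that subgroup is soluble, and its Hall subgroup for five and eleven puts an element of order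
five into the centraliser of an element of order eleven, which is too small.
-/

set_option autoImplicit false
set_option maxRecDepth 10000

namespace CfsgLib.Sporadic.McLUnique

open CfsgLib.Sporadic.OutCert CfsgLib.Sporadic.OutCert.McL

attribute [local irreducible] lk pkF allF compK ka kai kb gTab twoTree fixB

theorem index_C0 : C0.index = 22275 := by
  have h := C0.card_mul_index
  rw [H_spec.2, Nat.dvd_antisymm card_C0.1 card_C0.2] at h
  omega

theorem hA_hB_ne : hA * hB ≠ hB * hA := by
  intro h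
  have hc : C0 = ⊤ := by
    refine top_unique ?_
    rw [← closure_gen, Subgroup.closure_le]
    rintro x (rfl | rfl)
    · exact Subgroup.mem_centralizer_singleton_iff.2 h
    · exact Subgroup.mem_centralizer_singleton_iff.2 rfl
  have hi := index_C0
  rw [hc, Subgroup.index_top] at hi
  omega

theorem central_eq_one {z : H} (ha : z * hA = hA * z) (hb : z * hB = hB * z) : z = 1 := by
  have hall : ∀ g : H, g * z = z * g := by
    intro g
    have hg : g ∈ Subgroup.centralizer ({z} : Set H) := by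
      have : (⊤ : Subgroup H) ≤ Subgroup.centralizer ({z} : Set H) := by
        rw [← closure_gen, Subgroup.closure_le]
        rintro x (rfl | rfl)
        · exact Subgroup.mem_centralizer_singleton_iff.2 ha.symm
        · exact Subgroup.mem_centralizer_singleton_iff.2 hb.symm
      exact this (Subgroup.mem_top g)
    exact Subgroup.mem_centralizer_singleton_iff.1 hg
  have hzC : z ∈ C0 := Subgroup.mem_centralizer_singleton_iff.2 hb
  have hzc : (⟨z, hzC⟩ : C0) ∈ Subgroup.center C0 :=
    Subgroup.mem_center_iff.2 fun g => Subtype.ext (hall g)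
  let b : C0 := ⟨hB, Subgroup.mem_centralizer_singleton_iff.2 rfl⟩
  have hbc : b ∈ Subgroup.center C0 :=
    Subgroup.mem_center_iff.2 fun g => Subtype.ext (Subgroup.mem_centralizer_singleton_iff.1 g.2)
  have hb1 : b ≠ 1 := fun e => hB_ne_one (congrArg Subtype.val e)
  by_contra hz
  have h2 := cover.1
  haveI : Fact (Nat.Prime 2) := ⟨Nat.prime_two⟩
  have heq : Subgroup.zpowers b = Subgroup.center C0 := by
    refine Subgroup.eq_of_le_of_card_ge (Subgroup.zpowers_le.2 hbc) ?_
    rw [h2, Nat.card_zpowers, orderOf_eq_prime (by rw [pow_two]; exact Subtype.ext hB_sq) hb1]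
  rw [← heq, ← mem_powers_iff_mem_zpowers] at hzc
  obtain ⟨k, hk⟩ := hzc
  have hk' : hB ^ k = z := congrArg Subtype.val hk
  rcases Nat.even_or_odd' k with ⟨j, rfl | rfl⟩
  · rw [pow_mul, pow_two, hB_sq, one_pow] at hk'
    exact hz hk'.symm
  · rw [pow_succ, pow_mul, pow_two, hB_sq, one_pow, one_mul] at hk'
    exact hA_hB_ne (hk' ▸ ha.symm)

theorem card_cent_A : Nat.card (Subgroup.centralizer ({hA} : Set H)) ≤ 22 := by
  classical
  have key : ∀ y : Subgroup.centralizer ({hA} : Set H), ∃ p : Fin 11 × Bool,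
      (y : H) * hB * (y : H)⁻¹ = hA ^ (p.1 : ℕ) * cond p.2 hB hC * (hA ^ (p.1 : ℕ))⁻¹ := by
    intro y
    obtain ⟨i, h⟩ := survivor_one (MulAut.conj (y : H)) (by
      rw [MulAut.conj_apply, Subgroup.mem_centralizer_singleton_iff.1 y.2, mul_inv_cancel_right])
    have hp : hA ^ i = hA ^ ((⟨i % 11, Nat.mod_lt _ (by norm_num)⟩ : Fin 11) : ℕ) := by
      rw [Fin.val_mk, ← orderOf_hA, pow_mod_orderOf]
    rw [MulAut.conj_apply, hp] at h
    rcases h with h | h
    · exact ⟨(_, true), h⟩
    · exact ⟨(_, false), h⟩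
  choose p hp using key
  have hinj : Function.Injective p := by
    intro y y' e
    have e1 := (hp y).trans ((hp y').trans (by rw [e])).symm
    refine Subtype.ext (inv_mul_eq_one.1 (central_eq_one ?_ ?_)).symm
    · exact Subgroup.mem_centralizer_singleton_iff.1 (mul_mem (inv_mem y'.2) y.2)
    · calc (y' : H)⁻¹ * y * hB = (y' : H)⁻¹ * ((y : H) * hB * (y : H)⁻¹) * y := by group
        _ = (y' : H)⁻¹ * ((y' : H) * hB * (y' : H)⁻¹) * y := by rw [e1]
        _ = hB * ((y' : H)⁻¹ * y) := by group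
  refine (Nat.card_le_card_of_injective p hinj).trans ?_
  rw [Nat.card_prod, Nat.card_fin, Nat.card_eq_fintype_card, Fintype.card_bool]

theorem no_order_five_cent {a y : H} (ha : orderOf a = 11) (hy : orderOf y = 5) (h : y * a = a * y) : False := by
  haveI : Fact (Nat.Prime 11) := ⟨by norm_num⟩
  have hcard : ∀ u : H, orderOf u = 11 → Nat.card (Subgroup.zpowers u) = 11 ^ (Nat.card H).factorization 11 := by
    intro u hu
    rw [Nat.card_zpowers, hu, H_spec.2, show 898128000 = 11 ^ 1 * 81648000 by norm_num,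
      Nat.factorization_mul (by norm_num) (by norm_num), Finsupp.add_apply,
      Nat.Prime.factorization_pow (by norm_num), Finsupp.single_eq_same,
      Nat.factorization_eq_zero_of_not_dvd (by norm_num)]
    norm_num
  obtain ⟨g, hg⟩ := MulAction.exists_smul_eq H (Sylow.ofCard _ (hcard a ha)) (Sylow.ofCard _ (hcard hA orderOf_hA))
  have hmem : hA ∈ ((g • Sylow.ofCard _ (hcard a ha) : Sylow 11 H) : Subgroup H) := by
    rw [hg, Sylow.coe_ofCard]; exact Subgroup.mem_zpowers _
  obtain ⟨w, hw, hwA⟩ := Subgroup.mem_pointwise_smul_iff_inv_smul_mem.1 hmem |> fun hh =>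
    (⟨(MulAut.conj g)⁻¹ • hA, hh, rfl⟩ : ∃ w, w ∈ ((Sylow.ofCard _ (hcard a ha) : Sylow 11 H) : Subgroup H) ∧
      w = (MulAut.conj g)⁻¹ • hA)
  rw [Sylow.coe_ofCard] at hw
  obtain ⟨k, hk⟩ := hw
  have hyw : y * w = w * y := by
    rw [← hk]
    exact (Commute.zpow_right h k).eq
  have hgw : g * w * g⁻¹ = hA := by
    rw [hwA]
    show g * (g⁻¹ * hA * g) * g⁻¹ = hA
    group
  let z : H := g * y * g⁻¹
  have hz : orderOf z = 5 := by
    rw [show z = MulAut.conj g y from rfl, MulEquiv.orderOf_eq, hy]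
  have hzc : z ∈ Subgroup.centralizer ({hA} : Set H) := by
    rw [Subgroup.mem_centralizer_singleton_iff, ← hgw]
    calc g * y * g⁻¹ * (g * w * g⁻¹) = g * (y * w) * g⁻¹ := by group
      _ = g * w * g⁻¹ * (g * y * g⁻¹) := by rw [hyw]; group
  have hA' : hA ∈ Subgroup.centralizer ({hA} : Set H) := Subgroup.mem_centralizer_singleton_iff.2 rfl
  have h5 := (Subgroup.centralizer ({hA} : Set H)).orderOf_dvd_natCard hzc
  have h11 := (Subgroup.centralizer ({hA} : Set H)).orderOf_dvd_natCard hA'
  rw [hz] at h5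
  rw [orderOf_hA] at h11
  have := Nat.le_of_dvd Nat.card_pos (Nat.Coprime.mul_dvd_of_dvd_of_dvd (by norm_num) h5 h11)
  have := card_cent_A
  omega

theorem no_odd_transitive {D : Subgroup H} (hD : Odd (Nat.card D))
    (htr : ∀ s : H, orderOf s = 2 → ∃ d ∈ D, d * hB * d⁻¹ = s) : False := by
  classical
  haveI : Fact (Nat.Prime 2) := ⟨Nat.prime_two⟩
  have hB2 : orderOf hB = 2 := orderOf_eq_prime (by rw [pow_two]; exact hB_sq) hB_ne_one
  have hdvd : 22275 ∣ Nat.card D := by
    have horb : MulAction.orbit D ((1 : H) : H ⧸ C0) = Set.univ := by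
      refine Set.eq_univ_of_forall fun q => ?_
      obtain ⟨g, rfl⟩ := QuotientGroup.mk_surjective q
      obtain ⟨d, hd, e⟩ := htr (g * hB * g⁻¹) (by
        rw [show g * hB * g⁻¹ = MulAut.conj g hB from rfl, MulEquiv.orderOf_eq, hB2])
      refine ⟨⟨d, hd⟩, ?_⟩
      show ((d * 1 : H) : H ⧸ C0) = _
      rw [mul_one, QuotientGroup.eq, Subgroup.mem_centralizer_singleton_iff]
      calc d⁻¹ * g * hB = d⁻¹ * (g * hB * g⁻¹) * g := by group
        _ = d⁻¹ * (d * hB * d⁻¹) * g := by rw [e]
        _ = hB * (d⁻¹ * g) := by group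
    have h := MulAction.index_stabilizer D ((1 : H) : H ⧸ C0)
    rw [horb, Set.ncard_univ, ← Subgroup.index_eq_card, index_C0] at h
    exact h ▸ Subgroup.index_dvd_card _
  have hH : Nat.card D ∣ 898128000 := H_spec.2 ▸ Subgroup.card_subgroup_dvd_card D
  haveI := Cfsg.Agent.S0205.result hD
  -- the Hall subgroup for five and eleven
  let m := Nat.gcd (Nat.card D) 1375
  have hm : m = 275 ∨ m = 1375 := by
    have h1 : 275 ∣ m := Nat.dvd_gcd ((show 275 ∣ 22275 by norm_num).trans hdvd) (by norm_num)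
    obtain ⟨c, hc⟩ := h1
    have h2 : 275 * c ∣ 275 * 5 := hc ▸ (Nat.gcd_dvd_right (Nat.card D) 1375)
    rcases (Nat.dvd_prime (by norm_num : Nat.Prime 5)).1 (Nat.dvd_of_mul_dvd_mul_left (by norm_num) h2) with h | h
    · left; omega
    · right; omega
  obtain ⟨n, hn⟩ := Nat.gcd_dvd_left (Nat.card D) 1375
  have hcop : m.Coprime n := by
    have hn5 : ¬ 5 ∣ n := by
      intro h5
      have h : 5 * m ∣ Nat.card D := by
        obtain ⟨j, rfl⟩ := h5
        exact ⟨j, by rw [hn]; ring⟩
      rcases hm with e | e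
      · have : 1375 ∣ m := Nat.dvd_gcd (by rw [e] at h; exact h) dvd_rfl
        rw [e] at this; norm_num at this
      · rw [e] at h
        have := h.trans hH
        norm_num at this
    have hn11 : ¬ 11 ∣ n := by
      intro h11
      have h : 11 * m ∣ 898128000 := by
        obtain ⟨j, rfl⟩ := h11
        exact (show 11 * m ∣ Nat.card D from ⟨j, by rw [hn]; ring⟩).trans hH
      rcases hm with e | e <;> rw [e] at h <;> norm_num at h
    have c5 := ((by norm_num : Nat.Prime 5).coprime_iff_not_dvd).2 hn5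
    have c11 := ((by norm_num : Nat.Prime 11).coprime_iff_not_dvd).2 hn11
    rcases hm with e | e <;> rw [e]
    · rw [show 275 = 5 * 5 * 11 from rfl]
      exact (c5.mul c5).mul c11
    · rw [show 1375 = 5 * 5 * 5 * 11 from rfl]
      exact ((c5.mul c5).mul c5).mul c11
  obtain ⟨K, hK, -⟩ := CfsgLib.Solvable.Hall.exists_hall_ge hn hcop (K := (⊥ : Subgroup D)) (by simp)
  -- the Sylow subgroup for eleven is normal in it
  haveI : Fact (Nat.Prime 11) := ⟨by norm_num⟩
  haveI : Fact (Nat.Prime 5) := ⟨by norm_num⟩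
  have hKcard : Nat.card K = 25 * 11 ∨ Nat.card K = 125 * 11 := by rw [hK]; rcases hm with e | e <;> omega
  let Q : Sylow 11 K := default
  have hQ : Nat.card Q = 11 := by
    rw [Q.card_eq_multiplicity]
    rcases hKcard with e | e <;> rw [e, Nat.factorization_mul (by norm_num) (by norm_num), Finsupp.add_apply,
      Nat.factorization_eq_zero_of_not_dvd (by norm_num), Nat.Prime.factorization_self (by norm_num)] <;> norm_num
  haveI : (Q : Subgroup K).Normal := by
    have h1 : Nat.card (Sylow 11 K) ≡ 1 [MOD 11] := card_sylow_modEq_one 11 K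
    have h2 := Q.card_dvd_index
    have h3 := (Q : Subgroup K).card_mul_index
    rw [show Nat.card (Q : Subgroup K) = Nat.card Q from rfl, hQ] at h3
    haveI : Subsingleton (Sylow 11 K) := by
      rw [← Finite.card_le_one_iff_subsingleton]
      have hi : (Q : Subgroup K).index ∣ 125 := by
        rcases hKcard with e | e <;> rw [e] at h3
        · rw [show (Q : Subgroup K).index = 25 by omega]; norm_num
        · rw [show (Q : Subgroup K).index = 125 by omega]
      obtain ⟨a, ha, e⟩ := (Nat.dvd_prime_pow (by norm_num : Nat.Prime 5) (m := 3)).1 (h2.trans hi)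
      unfold Nat.ModEq at h1
      rw [e] at h1 ⊢
      interval_cases a <;> norm_num at *
    exact Sylow.normal_of_subsingleton Q
  -- an element of order five centralising it
  let ψ : K →* MulAut (Q : Subgroup K) := MulAut.conjNormal
  haveI : IsCyclic (Q : Subgroup K) := isCyclic_of_prime_card hQ
  have hrange : Nat.card ψ.range ∣ 10 := by
    have := Subgroup.card_subgroup_dvd_card ψ.range
    rwa [IsCyclic.card_mulAut, show Nat.card (Q : Subgroup K) = 11 from hQ,
      show Nat.totient 11 = 10 from Nat.totient_prime (by norm_num)] at this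
  have h5 : 5 ∣ Nat.card ψ.ker := by
    have h1 := ψ.ker.card_mul_index
    rw [Subgroup.index_ker] at h1
    have h25 : 25 ∣ Nat.card ψ.ker * Nat.card ψ.range := by
      rw [h1]; rcases hKcard with e | e <;> rw [e] <;> norm_num
    by_contra hc
    have hcc : (25 : ℕ).Coprime (Nat.card ψ.ker) := by
      have := ((by norm_num : Nat.Prime 5).coprime_iff_not_dvd).2 hc
      rw [show 25 = 5 * 5 from rfl]; exact this.mul this
    have := Nat.le_of_dvd (by norm_num) ((hcc.dvd_of_dvd_mul_left h25).trans hrange)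
    omega
  obtain ⟨y, hy⟩ := exists_prime_orderOf_dvd_card' 5 h5
  obtain ⟨a, ha⟩ := exists_prime_orderOf_dvd_card' (G := (Q : Subgroup K)) 11 (dvd_of_eq hQ.symm)
  have hcomm : (y : K) * (a : K) = (a : K) * (y : K) := by
    have := congrArg Subtype.val (DFunLike.congr_fun (MonoidHom.mem_ker.1 y.2) a)
    rw [show ((ψ y a : (Q : Subgroup K)) : K) = (y : K) * a * (y : K)⁻¹ from MulAut.conjNormal_apply _ _] at this
    exact mul_inv_eq_iff_eq_mul.1 this
  refine no_order_five_cent (a := (((a : K) : D) : H)) (y := (((y : K) : D) : H)) ?_ ?_ ?_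
  · rw [Subgroup.orderOf_coe, Subgroup.orderOf_coe, Subgroup.orderOf_coe, ha]
  · rw [Subgroup.orderOf_coe, Subgroup.orderOf_coe, Subgroup.orderOf_coe, hy]
  · exact congrArg (fun z : K => ((z : D) : H)) hcomm

theorem involution_conjugates {x y : H} (hx : orderOf x = 2) (hy : orderOf y = 2) : IsConj x y := by
  have key : ∀ z : H, orderOf z = 2 → IsConj hB z := fun z hz => by
    refine involution_conj ?_ fun h => ?_
    · rw [← pow_two, ← hz, pow_orderOf_eq_one]
    · rw [h, orderOf_one] at hz; omega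
  exact (key x hx).symm.trans (key y hy)

theorem eq_top_of_centralizer_le {G : Type*} [Group G] [Finite G] (M : Subgroup G) (e : M ≃* H) (t : G)
    (ht : orderOf t = 2) (htM : t ∈ M) (hc : Subgroup.centralizer ({t} : Set G) ≤ M) : M = ⊤ := by
  classical
  have hconj : ∀ s ∈ M, orderOf s = 2 → ∃ m ∈ M, m * t * m⁻¹ = s := by
    intro s hs hs2
    obtain ⟨c, hc'⟩ := isConj_iff.1 (e.symm.toMonoidHom.map_isConj (involution_conjugates
      (x := e ⟨t, htM⟩) (y := e ⟨s, hs⟩) (by rw [MulEquiv.orderOf_eq, Subgroup.orderOf_mk, ht])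
      (by rw [MulEquiv.orderOf_eq, Subgroup.orderOf_mk, hs2])))
    simp only [MulEquiv.coe_toMonoidHom, MulEquiv.symm_apply_apply] at hc'
    exact ⟨c, c.2, congrArg Subtype.val hc'⟩
  -- an element conjugating an involution of the subgroup into it lies in it
  have hin : ∀ g s, s ∈ M → orderOf s = 2 → g * s * g⁻¹ ∈ M → g ∈ M := by
    intro g s hs hs2 hgs
    obtain ⟨m1, h1, e1⟩ := hconj s hs hs2
    obtain ⟨m2, h2, e2⟩ := hconj _ hgs (by
      rw [show g * s * g⁻¹ = MulAut.conj g s from rfl, MulEquiv.orderOf_eq, hs2])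
    have hk : m2⁻¹ * g * m1 ∈ M := hc (by
      rw [Subgroup.mem_centralizer_singleton_iff]
      calc m2⁻¹ * g * m1 * t = m2⁻¹ * (g * (m1 * t * m1⁻¹) * g⁻¹) * g * m1 := by group
        _ = m2⁻¹ * (m2 * t * m2⁻¹) * g * m1 := by rw [e1, e2]
        _ = t * (m2⁻¹ * g * m1) := by group)
    have := mul_mem (mul_mem h2 hk) (inv_mem h1)
    rwa [show m2 * (m2⁻¹ * g * m1) * m1⁻¹ = g by group] at this
  by_contra hM
  obtain ⟨g, hg⟩ : ∃ g, g ∉ M := by
    by_contra! h
    exact hM (eq_top_iff.2 fun g _ => h g)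
  have hse : Cfsg.IsStronglyEmbedded M := by
    refine ⟨hM, ?_, fun g hg => ?_⟩
    · exact even_iff_two_dvd.2 (ht ▸ M.orderOf_dvd_natCard htM)
    · rw [Nat.odd_iff, ← Nat.two_dvd_ne_zero]
      intro h2
      haveI : Fact (Nat.Prime 2) := ⟨Nat.prime_two⟩
      obtain ⟨z, hz⟩ := exists_prime_orderOf_dvd_card' 2 h2
      obtain ⟨hz1, w, hw, hwz⟩ := z.2
      have hwz' : g * w * g⁻¹ = ((z : _) : G) := hwz
      refine hg (hin g w hw ?_ (by rw [hwz']; exact hz1))
      rw [← MulEquiv.orderOf_eq (MulAut.conj g) w]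
      show orderOf ((MulAut.conj g).toMonoidHom w) = 2
      rw [hwz, Subgroup.orderOf_coe, hz]
  let u := g * t * g⁻¹
  have hu : orderOf u = 2 := by rw [show u = MulAut.conj g t from rfl, MulEquiv.orderOf_eq, ht]
  have huM : u ∉ M := fun h => hg (hin g t htM ht h)
  let D0 := M ⊓ M.map (MulAut.conj u).toMonoidHom
  have hDodd : Odd (Nat.card D0) := hse.2.2 u huM
  let D : Subgroup H := (D0.subgroupOf M).map e.toMonoidHom
  have hD : Odd (Nat.card D) := by
    rw [← Nat.card_congr (Subgroup.equivMapOfInjective _ _ e.injective).toEquiv,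
      Nat.card_congr (Subgroup.subgroupOfEquivOfLe (inf_le_left : D0 ≤ M)).toEquiv]
    exact hDodd
  refine no_odd_transitive hD fun s hs => ?_
  haveI : Fact (Nat.Prime 2) := ⟨Nat.prime_two⟩
  have hB2 : orderOf hB = 2 := orderOf_eq_prime (by rw [pow_two]; exact hB_sq) hB_ne_one
  obtain ⟨d, hd, hdd⟩ := (Cfsg.Agent.S1225.result M hse u hu huM (e.symm hB : G) (e.symm s : G)
    (by rw [Subgroup.orderOf_coe, MulEquiv.orderOf_eq, hB2]) (e.symm hB).2
    (by rw [Subgroup.orderOf_coe, MulEquiv.orderOf_eq, hs]) (e.symm s).2).1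
  refine ⟨e ⟨d, (Subgroup.mem_inf.1 hd).1⟩, ⟨⟨d, (Subgroup.mem_inf.1 hd).1⟩, hd, rfl⟩, ?_⟩
  apply e.symm.injective
  simp only [map_mul, map_inv, MulEquiv.symm_apply_apply]
  exact Subtype.ext hdd

end CfsgLib.Sporadic.McLUnique
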