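import Cfsg.Agent.Lib.Sporadic.McLUnique.Data
import Cfsg.Agent.Lib.Sporadic.OutCert.McL.Cent

/-!
# The involution centraliser inside the model

Elements are products of the seven generators; equalities are decided on packed permutations of 275 points.
-/

set_option autoImplicit false
set_option maxRecDepth 100000

namespace CfsgLib.Sporadic.McLUnique

open CfsgLib.Sporadic.OutCert CfsgLib.Sporadic.OutCert.McL

attribute [local irreducible] lk pkF allF compK oneK ka kai kb gTab twoTree fixB cgKeys eKeys cvKeys cvW classW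
  xKey basW centW

/-- The permutation of an element of the centraliser. -/
noncomputable abbrev pr (c : C0) : P := ((c : H) : P)

/-- A generator of the centraliser, by number. -/
noncomputable def cg (i : ℕ) : C0 := if h : i < 7 then cgen ⟨i, h⟩ else 1

/-- A product of generators. -/
noncomputable def cw (l : List ℕ) : C0 := (l.map cg).prod

/-- The number of a product of generators. -/
noncomputable def ck (l : List ℕ) : ℕ :=
  l.foldr (fun i a => compK 9 275 (cgKeys.getD i (oneK 9 275)) a) (oneK 9 275)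

theorem cgKeys_eq : cgKeys = centW.map wk := by decide +kernel

theorem rep_cg (i : ℕ) : Rep 9 275 (cgKeys.getD i (oneK 9 275)) (pr (cg i)) := by
  rw [cgKeys_eq, cg]
  by_cases h : i < 7
  · rw [dif_pos h, List.getD_eq_getElem _ _ (by simpa [centW] using h), List.getElem_map]
    have e : centW[i]'(by simpa [centW] using h) = centW.getD i [] := (List.getD_eq_getElem _ _ _).symm
    rw [e]
    exact rep_wp _
  · rw [dif_neg h, List.getD_eq_default _ _ (by simpa [centW] using Nat.le_of_not_lt h)]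
    exact rep_one hw

theorem rep_mul {p q : ℕ} {a b : C0} (ha : Rep 9 275 p (pr a)) (hb : Rep 9 275 q (pr b)) :
    Rep 9 275 (compK 9 275 p q) (pr (a * b)) :=
  rep_comp hw ha hb

theorem rep_cw : ∀ l : List ℕ, Rep 9 275 (ck l) (pr (cw l))
  | [] => show Rep 9 275 (oneK 9 275) (1 : P) from rep_one hw
  | i :: l => rep_mul (rep_cg i) (rep_cw l)

theorem eq_of_rep {p q : ℕ} {a b : C0} (ha : Rep 9 275 p (pr a)) (hb : Rep 9 275 q (pr b)) (h : p = q) : a = b :=
  Subtype.ext (Subtype.ext (ha.inj (h ▸ hb)))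

theorem rep_one' : Rep 9 275 (oneK 9 275) (pr 1) := rep_one hw

theorem key_cw : ∀ l : List ℕ, ck l = key 9 (pr (cw l))
  | [] => show oneK 9 275 = key 9 (1 : P) from key_one
  | i :: l => key_comp (rep_cg i) (rep_cw l)

theorem cw_eq {l l' : List ℕ} (h : ck l = ck l') : cw l = cw l' := eq_of_rep (rep_cw l) (rep_cw l') h

theorem ck_eq {l l' : List ℕ} (h : cw l = cw l') : ck l = ck l' := by rw [key_cw, key_cw, h]

theorem cw_append (l l' : List ℕ) : cw (l ++ l') = cw l * cw l' := by
  rw [cw, List.map_append, List.prod_append]; rfl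

theorem cw_flatMap {α : Type*} (f : α → List ℕ) : ∀ l : List α, cw (l.flatMap f) = (l.map fun x => cw (f x)).prod
  | [] => rfl
  | x :: l => by rw [List.flatMap_cons, cw_append, cw_flatMap f l, List.map_cons, List.prod_cons]

/-- The central involution. -/
noncomputable def tB : C0 := cw tW

/-- The second involution. -/
noncomputable def xB : C0 := cw xW

theorem t_key : ck tW = kb ∧ ck xW = xKey ∧ compK 9 275 kb kb = oneK 9 275 ∧
    compK 9 275 xKey xKey = oneK 9 275 ∧ (kb == oneK 9 275) = false ∧ (xKey == oneK 9 275) = false ∧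
      (xKey == kb) = false := by
  decide +kernel

theorem tB_val : ((tB : C0) : H) = hB := by
  refine Subtype.ext ((rep_cw tW).inj ?_)
  rw [t_key.1]
  exact rep_B

theorem rep_tB : Rep 9 275 kb (pr tB) := t_key.1 ▸ rep_cw tW

theorem rep_xB : Rep 9 275 xKey (pr xB) := t_key.2.1 ▸ rep_cw xW

theorem tB_sq : tB * tB = 1 := eq_of_rep (rep_mul rep_tB rep_tB) rep_one' t_key.2.2.1

theorem xB_sq : xB * xB = 1 := eq_of_rep (rep_mul rep_xB rep_xB) rep_one' t_key.2.2.2.1

theorem tB_central (c : C0) : c * tB = tB * c := by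
  apply Subtype.ext
  show (c : H) * ((tB : C0) : H) = ((tB : C0) : H) * c
  rw [tB_val]
  exact Subgroup.mem_centralizer_singleton_iff.1 c.2

/-! ### Labels and actions -/

/-- Reading a list of labels as a map. -/
def ap (p : List ℕ) (n : ℕ) : ℕ := p.getD n 0

/-- The composite of two lists of labels. -/
def cmp (p q : List ℕ) : List ℕ := q.map (ap p)

/-- A list of sixteen labels. -/
def ok16 (p : List ℕ) : Bool := p.length == 16 && p.all fun x => Nat.blt x 16

/-- The identity on labels. -/
def id16 : List ℕ := List.range 16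

theorem ok16_spec {p : List ℕ} (h : ok16 p = true) : p.length = 16 ∧ ∀ n, ap p n < 16 := by
  simp only [ok16, Bool.and_eq_true, beq_iff_eq, List.all_eq_true, Nat.blt_eq] at h
  refine ⟨h.1, fun n => ?_⟩
  rw [ap, List.getD_eq_getElem?_getD]
  rcases lt_or_ge n p.length with hn | hn
  · rw [List.getElem?_eq_getElem hn]; exact h.2 _ (List.getElem_mem hn)
  · rw [List.getElem?_eq_none hn]; norm_num

theorem ap_cmp {p q : List ℕ} (hq : q.length = 16) {n : ℕ} (hn : n < 16) : ap (cmp p q) n = ap p (ap q n) := by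
  rw [ap, cmp, List.getD_eq_getElem _ _ (by rw [List.length_map, hq]; exact hn), List.getElem_map, ap, ap, ap,
    List.getD_eq_getElem q _ (hq ▸ hn)]

theorem ok16_cmp {p q : List ℕ} (hp : ok16 p = true) (hq : ok16 q = true) : ok16 (cmp p q) = true := by
  simp only [ok16, cmp, Bool.and_eq_true, beq_iff_eq, List.all_eq_true, Nat.blt_eq, List.length_map]
  refine ⟨(ok16_spec hq).1, fun x hx => ?_⟩
  obtain ⟨y, -, rfl⟩ := List.mem_map.1 hx
  exact (ok16_spec hp).2 y

theorem ap_id16 {n : ℕ} (hn : n < 16) : ap id16 n = n := by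
  rw [ap, id16, List.getD_eq_getElem _ _ (by simpa using hn), List.getElem_range]

theorem list16_ext {p q : List ℕ} (hp : p.length = 16) (hq : q.length = 16) (h : ∀ n < 16, ap p n = ap q n) :
    p = q := by
  refine List.ext_getElem (hp.trans hq.symm) fun n h1 h2 => ?_
  have := h n (hp ▸ h1)
  rwa [ap, ap, List.getD_eq_getElem _ _ h1, List.getD_eq_getElem _ _ h2] at this

/-- The word of an element of one of the two subgroups. -/
def eW (k : Fin 2) (n : ℕ) : List ℕ :=
  (List.range 4).flatMap fun j => if Nat.testBit n j then (basW.getD k []).getD j [] else []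

/-- An element of one of the two subgroups, by label. -/
noncomputable def el (k : Fin 2) (n : ℕ) : C0 := cw (eW k n)

/-- Its number. -/
noncomputable def eK (k : Fin 2) (n : ℕ) : ℕ := (eKeys.getD k []).getD n 0

theorem eK_eq : ∀ k : Fin 2, ∀ n : Fin 16, eK k n = ck (eW k n) := by decide +kernel

theorem rep_el (k : Fin 2) {n : ℕ} (hn : n < 16) : Rep 9 275 (eK k n) (pr (el k n)) :=
  (eK_eq k ⟨n, hn⟩).symm ▸ rep_cw _

theorem e_facts : (∀ k : Fin 2, ((eKeys.getD k []).Nodup ∧ (eKeys.getD k []).length = 16) ∧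
      eK k 0 = oneK 9 275 ∧ eK k 1 = kb ∧ eK k 2 = xKey) ∧
    (∀ k : Fin 2, ∀ m n : Fin 16, compK 9 275 (eK k m) (eK k n) = eK k ((m : ℕ) ^^^ n)) ∧
    ∀ n : Fin 4, eK 0 n = eK 1 n := by
  decide +kernel

theorem el_mul (k : Fin 2) {m n : ℕ} (hm : m < 16) (hn : n < 16) : el k m * el k n = el k (m ^^^ n) :=
  eq_of_rep (rep_mul (rep_el k hm) (rep_el k hn)) (rep_el k (Nat.xor_lt_two_pow (n := 4) hm hn))
    (e_facts.2.1 k ⟨m, hm⟩ ⟨n, hn⟩)

theorem el_zero (k : Fin 2) : el k 0 = 1 :=
  eq_of_rep (rep_el k (by norm_num)) rep_one' (e_facts.1 k).2.1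

theorem el_one (k : Fin 2) : el k 1 = tB := eq_of_rep (rep_el k (by norm_num)) rep_tB (e_facts.1 k).2.2.1

theorem el_two (k : Fin 2) : el k 2 = xB := eq_of_rep (rep_el k (by norm_num)) rep_xB (e_facts.1 k).2.2.2

theorem el_vee {n : ℕ} (hn : n < 4) (k : Fin 2) : el k n = el 0 n := by
  have h := e_facts.2.2 ⟨n, hn⟩
  fin_cases k
  · rfl
  · exact eq_of_rep (rep_el 1 (by omega)) (rep_el 0 (by omega)) h.symm

theorem el_comm (k : Fin 2) {m n : ℕ} (hm : m < 16) (hn : n < 16) : el k m * el k n = el k n * el k m := by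
  rw [el_mul k hm hn, el_mul k hn hm, Nat.xor_comm]

theorem el_sq (k : Fin 2) {n : ℕ} (hn : n < 16) : el k n * el k n = 1 := by
  rw [el_mul k hn hn, Nat.xor_self, el_zero]

theorem el_inj (k : Fin 2) {m n : ℕ} (hm : m < 16) (hn : n < 16) (h : el k m = el k n) : m = n := by
  have e : eK k m = eK k n := by
    rw [eK_eq k ⟨m, hm⟩, eK_eq k ⟨n, hn⟩]
    exact ck_eq h
  obtain ⟨hnd, hlen⟩ := (e_facts.1 k).1
  rw [eK, eK, List.getD_eq_getElem _ _ (hlen.ge.trans_lt' hm), List.getD_eq_getElem _ _ (hlen.ge.trans_lt' hn)] at e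
  exact (hnd.getElem_inj_iff).1 e

/-- An element acts on one of the subgroups by a list of labels. -/
def Act (k : Fin 2) (c : C0) (p : List ℕ) : Prop := ∀ n < 16, c * el k n = el k (ap p n) * c

theorem Act.one (k : Fin 2) : Act k 1 id16 := fun n hn => by rw [ap_id16 hn, one_mul, mul_one]

theorem Act.mul {k : Fin 2} {c d : C0} {p q : List ℕ} (hc : Act k c p) (hd : Act k d q) (hq : ok16 q = true) :
    Act k (c * d) (cmp p q) := fun n hn => by
  rw [ap_cmp (ok16_spec hq).1 hn, mul_assoc, hd n hn, ← mul_assoc, hc _ ((ok16_spec hq).2 n), mul_assoc]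

theorem Act.unique {k : Fin 2} {c : C0} {p q : List ℕ} (hp : Act k c p) (hq : Act k c q) (op : ok16 p = true)
    (oq : ok16 q = true) : p = q :=
  list16_ext (ok16_spec op).1 (ok16_spec oq).1 fun n hn =>
    el_inj k ((ok16_spec op).2 n) ((ok16_spec oq).2 n) (mul_right_cancel ((hp n hn).symm.trans (hq n hn)))

theorem act_el (k : Fin 2) {m : ℕ} (hm : m < 16) : Act k (el k m) id16 := fun n hn => by
  rw [ap_id16 hn, el_comm k hm hn]

/-! ### The centraliser of the two involutions -/

/-- The listed elements of the centraliser of the two involutions. -/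
noncomputable def cv (i : ℕ) : C0 := cw (cvW.getD i [])

theorem cv_facts : cvKeys = cvW.map ck ∧ cvKeys.Nodup ∧ cvKeys.length = 192 ∧
    (cvKeys.all fun k => compK 9 275 k xKey == compK 9 275 xKey k) = true := by
  decide +kernel

theorem cvW_length : cvW.length = 192 := by
  have h := cv_facts.2.2.1
  rwa [cv_facts.1, List.length_map] at h

theorem rep_cv {i : ℕ} (hi : i < 192) : Rep 9 275 (cvKeys.getD i 0) (pr (cv i)) := by
  rw [cv_facts.1, List.getD_eq_getElem _ _ (by rw [List.length_map, cvW_length]; exact hi), List.getElem_map, cv,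
    List.getD_eq_getElem _ _ (cvW_length ▸ hi)]
  exact rep_cw _

theorem cvKey_eq {i : ℕ} (hi : i < 192) : cvKeys.getD i 0 = key 9 (pr (cv i)) := by
  rw [cv_facts.1, List.getD_eq_getElem _ _ (by rw [List.length_map, cvW_length]; exact hi), List.getElem_map, cv,
    List.getD_eq_getElem _ _ (cvW_length ▸ hi)]
  exact key_cw _

theorem class_facts : classW.length = 210 ∧
    (classW.all fun e => ck (e.1 ++ e.2) == oneK 9 275) = true ∧
    (classW.map fun e => compK 9 275 (ck e.1) (compK 9 275 xKey (ck e.2))).Nodup := by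
  decide +kernel

theorem card_cv_le : Nat.card (Subgroup.centralizer ({xB} : Set C0)) ≤ 192 := by
  classical
  let Z := Subgroup.centralizer ({xB} : Set C0)
  have hC : Nat.card C0 = 40320 := Nat.dvd_antisymm card_C0.1 card_C0.2
  have hinv : ∀ j : Fin classW.length, cw (classW[j]).2 = (cw (classW[j]).1)⁻¹ := fun j => by
    refine (inv_eq_of_mul_eq_one_right ?_).symm
    rw [← cw_append]
    exact cw_eq (l' := []) (beq_iff_eq.1 (List.all_eq_true.1 class_facts.2.1 _ (List.getElem_mem _)))
  let g : Fin classW.length → C0 ⧸ Z := fun j => (cw (classW[j]).1 : C0)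
  have hg : Function.Injective g := by
    intro i j e
    have hm := Subgroup.mem_centralizer_singleton_iff.1 (QuotientGroup.eq.1 e)
    have he : cw (classW[i]).1 * (xB * cw (classW[i]).2) = cw (classW[j]).1 * (xB * cw (classW[j]).2) := by
      rw [hinv, hinv]
      calc cw (classW[i]).1 * (xB * (cw (classW[i]).1)⁻¹)
          = cw (classW[i]).1 * (xB * ((cw (classW[i]).1)⁻¹ * cw (classW[j]).1)) * (cw (classW[j]).1)⁻¹ := by group
        _ = _ := by rw [← hm]; group
    have hk : ∀ j : Fin classW.length,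
        compK 9 275 (ck (classW[j]).1) (compK 9 275 xKey (ck (classW[j]).2)) =
          key 9 (pr (cw (classW[j]).1 * (xB * cw (classW[j]).2))) := fun j =>
      key_comp (rep_cw _) (rep_mul rep_xB (rep_cw _))
    have hij := (hk i).trans ((congrArg (fun c => key 9 (pr c)) he).trans (hk j).symm)
    have hnd := class_facts.2.2
    refine Fin.ext ((hnd.getElem_inj_iff (hi := by simpa using i.2) (hj := by simpa using j.2)).1 ?_)
    simpa [List.getElem_map] using hij
  have h1 := Nat.card_le_card_of_injective g hg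
  rw [Nat.card_fin, class_facts.1, ← Subgroup.index_eq_card] at h1
  have h2 := Z.card_mul_index
  rw [hC] at h2
  have h3 : Nat.card Z * 210 ≤ 40320 := h2 ▸ Nat.mul_le_mul_left _ h1
  show Nat.card Z ≤ 192
  omega

theorem cv_list {c : C0} (h : c * xB = xB * c) : ∃ i < 192, c = cv i := by
  classical
  let Z := Subgroup.centralizer ({xB} : Set C0)
  have hm : ∀ i : Fin 192, cv i ∈ Z := fun i => by
    rw [Subgroup.mem_centralizer_singleton_iff]
    have hk := List.all_eq_true.1 cv_facts.2.2.2 (cvKeys.getD i 0) (by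
      rw [List.getD_eq_getElem _ _ (lt_of_lt_of_eq i.2 cv_facts.2.2.1.symm)]; exact List.getElem_mem _)
    exact eq_of_rep (rep_mul (rep_cv i.2) rep_xB) (rep_mul rep_xB (rep_cv i.2)) (beq_iff_eq.1 hk)
  let g : Fin 192 → Z := fun i => ⟨cv i, hm i⟩
  have hg : Function.Injective g := by
    intro i j e
    have e' : cvKeys.getD i 0 = cvKeys.getD j 0 := by
      rw [cvKey_eq i.2, cvKey_eq j.2, show cv i = cv j from congrArg Subtype.val e]
    rw [List.getD_eq_getElem _ _ (lt_of_lt_of_eq i.2 cv_facts.2.2.1.symm), List.getD_eq_getElem _ _ (lt_of_lt_of_eq j.2 cv_facts.2.2.1.symm)] at e'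
    exact Fin.ext ((cv_facts.2.1.getElem_inj_iff).1 e')
  have hb := (Nat.bijective_iff_injective_and_card g).2 ⟨hg, le_antisymm (Nat.card_le_card_of_injective g hg)
    (by rw [Nat.card_fin]; exact card_cv_le)⟩
  obtain ⟨i, hi⟩ := hb.2 ⟨c, Subgroup.mem_centralizer_singleton_iff.2 h⟩
  exact ⟨i, i.2, (congrArg Subtype.val hi).symm⟩

theorem cv_checks :
    (∀ k : Fin 2, ((List.range 192).all fun i =>
      !((List.range 4).all fun j => compK 9 275 (cvKeys.getD i 0) (eK k (2 ^ j)) ==
          compK 9 275 (eK k (2 ^ j)) (cvKeys.getD i 0)) ||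
        (List.range 16).any fun n => cvKeys.getD i 0 == eK k n) = true) ∧
    ((List.range 192).all fun i =>
      !(compK 9 275 (cvKeys.getD i 0) (cvKeys.getD i 0) == oneK 9 275) ||
        (List.range 16).any (fun n => cvKeys.getD i 0 == eK 0 n) ||
        (List.range 16).any (fun n => cvKeys.getD i 0 == eK 1 n)) = true ∧
    ((List.range 16).all fun m => (List.range 16).all fun n => Nat.blt m 4 || Nat.blt n 4 ||
      !(compK 9 275 (eK 0 m) (eK 1 n) == compK 9 275 (eK 1 n) (eK 0 m))) = true := by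
  decide +kernel

theorem comm_el_basis {k : Fin 2} {c : C0} (h : ∀ n < 16, c * el k n = el k n * c) : ∃ n < 16, c = el k n := by
  obtain ⟨i, hi, rfl⟩ := cv_list (c := c) (by rw [← el_two k]; exact h 2 (by norm_num))
  have hc := List.all_eq_true.1 (cv_checks.1 k) i (List.mem_range.2 hi)
  simp only [Bool.or_eq_true, Bool.not_eq_true', List.any_eq_true, List.mem_range, beq_iff_eq] at hc
  rcases hc with hc | ⟨n, hn, e⟩
  · exfalso
    rw [← Bool.not_eq_true, List.all_eq_true] at hc
    refine hc fun j hj => beq_iff_eq.2 ?_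
    have hj4 : 2 ^ j < 16 := by
      have := List.mem_range.1 hj
      interval_cases j <;> norm_num
    rw [key_comp (rep_cv hi) (rep_el k hj4), key_comp (rep_el k hj4) (rep_cv hi)]
    exact congrArg (fun z => key 9 (pr z)) (h _ hj4)
  · exact ⟨n, hn, eq_of_rep (rep_cv hi) (rep_el k hn) e⟩

/-- A copy of the elementary abelian group of order sixteen in the stabiliser is one of the two. -/
theorem classify {d : ℕ → C0} (hx : ∀ n < 16, d n * xB = xB * d n)
    (hmul : ∀ m < 16, ∀ n < 16, d m * d n = d (m ^^^ n)) :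
    ∃ k : Fin 2, ∀ n < 16, ∃ m < 16, d n = el k m := by
  have h0 : d 0 = 1 := by
    have := hmul 0 (by norm_num) 0 (by norm_num)
    rwa [Nat.xor_self, mul_eq_left] at this
  have hin : ∀ n < 16, (∃ m < 16, d n = el 0 m) ∨ ∃ m < 16, d n = el 1 m := by
    intro n hn
    have hsq : d n * d n = 1 := by rw [hmul n hn n hn, Nat.xor_self, h0]
    obtain ⟨i, hi, e⟩ := cv_list (hx n hn)
    rw [e] at hsq ⊢
    have hc := List.all_eq_true.1 cv_checks.2.1 i (List.mem_range.2 hi)
    simp only [Bool.or_eq_true, Bool.not_eq_true', List.any_eq_true, List.mem_range, beq_iff_eq] at hc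
    rcases hc with (hc | ⟨m, hm, e'⟩) | ⟨m, hm, e'⟩
    · exfalso
      have hk : compK 9 275 (cvKeys.getD i 0) (cvKeys.getD i 0) = oneK 9 275 := by
        rw [key_comp (rep_cv hi) (rep_cv hi), show pr (cv i) * pr (cv i) = pr (cv i * cv i) from rfl, hsq]
        exact key_one.symm
      rw [beq_eq_false_iff_ne] at hc
      exact hc hk
    · exact Or.inl ⟨m, hm, eq_of_rep (rep_cv hi) (rep_el 0 hm) e'⟩
    · exact Or.inr ⟨m, hm, eq_of_rep (rep_cv hi) (rep_el 1 hm) e'⟩
  by_contra hk
  simp only [not_exists, not_forall, not_and] at hk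
  obtain ⟨a, ha, ha'⟩ := hk 0
  obtain ⟨b, hb, hb'⟩ := hk 1
  rcases hin a ha with ⟨m, hm, e⟩ | ⟨a1, ha1, ea⟩
  · exact ha' m hm e
  rcases hin b hb with ⟨b0, hb0, eb⟩ | ⟨m, hm, e⟩
  swap
  · exact hb' m hm e
  have h4a : ¬ a1 < 4 := fun h => ha' a1 ha1 (ea.trans (el_vee h 1))
  have h4b : ¬ b0 < 4 := fun h => hb' b0 hb0 (eb.trans (el_vee h 1).symm)
  have hc := List.all_eq_true.1 (List.all_eq_true.1 cv_checks.2.2 b0 (List.mem_range.2 hb0)) a1 (List.mem_range.2 ha1)
  simp only [Bool.or_eq_true, Nat.blt_eq, h4a, h4b, false_or, Bool.not_eq_true', beq_eq_false_iff_ne] at hc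
  refine hc ?_
  rw [key_comp (rep_el 0 hb0) (rep_el 1 ha1), key_comp (rep_el 1 ha1) (rep_el 0 hb0)]
  refine congrArg (key 9) ?_
  show pr (el 0 b0 * el 1 a1) = pr (el 1 a1 * el 0 b0)
  rw [← ea, ← eb, hmul b hb a ha, hmul a ha b hb, Nat.xor_comm]

end CfsgLib.Sporadic.McLUnique
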