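import Cfsg.Agent.Lib.Sporadic.McLUnique.Sigma

/-!
# Relations of the outer involution

Conjugation of the stabiliser of the four-group by the involution is the one of the model, and words with a
fixed-point-free action have the orders of their actions.
-/

set_option autoImplicit false
set_option maxRecDepth 100000

namespace CfsgLib.Sporadic.McLUnique

open CfsgLib.Sporadic.OutCert CfsgLib.Sporadic.OutCert.McL

attribute [local irreducible] lk pkF allF compK oneK ka kai kb gTab twoTree fixB cgKeys eKeys cvKeys cvW classW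
  xKey basW centW letterW lKeys nAct lTab eNW stabW s2Tab

/-- The outer letter of the model. -/
noncomputable def wH : H := ⟨wp wBool, wp_mem _⟩

/-- The number of the outer letter. -/
noncomputable def wKey : ℕ := lKeys.getD 6 0

theorem wKey_eq : wKey = wk wBool ∧ compK 9 275 wKey wKey = oneK 9 275 := by decide +kernel

theorem rep_wH : Rep 9 275 wKey ((wH : H) : P) := wKey_eq.1 ▸ rep_wp _

theorem wH_sq : wH * wH = 1 := Subtype.ext ((rep_comp hw rep_wH rep_wH).inj (wKey_eq.2 ▸ rep_one hw))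

/-- The seven generators of the stabiliser. -/
def nineW : List (List ℕ) :=
  [eW 0 1, eW 0 2, eW 0 4, eW 0 8, eW 1 4, eW 1 8, rW]

theorem nine_checks : nineW.length = 7 ∧ nineImgW.length = 7 ∧
    ((List.range 7).all fun j => compK 9 275 wKey (ck (nineW.getD j [])) ==
      compK 9 275 (ck (nineImgW.getD j [])) wKey) = true ∧
    ((List.range 192).all fun i => ((cvNine.getD i []).all fun j => Nat.blt j 7) &&
      ck ((cvNine.getD i []).flatMap fun j => nineW.getD j []) == cvKeys.getD i 0) = true ∧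
    (∀ k : Fin 2, eK k (ap (wAct.getD k []) 4) = ck (nineImgW.getD (2 + 2 * k) []) ∧
      eK k (ap (wAct.getD k []) 8) = ck (nineImgW.getD (3 + 2 * k) []) ∧
      eK k (ap (wAct.getD k []) 1) = ck (nineImgW.getD 0 []) ∧
      eK k (ap (wAct.getD k []) 2) = ck (nineImgW.getD 1 []) ∧
      ok16 (rAct.getD k []) = true ∧ ok16 (rAct2.getD k []) = true ∧
      cmp (wAct.getD k []) (rAct.getD k []) = cmp (rAct2.getD k []) (wAct.getD k []) ∧
      ∀ n : Fin 16, compK 9 275 (ck rW) (eK k n) = compK 9 275 (eK k (ap (rAct.getD k []) n)) (ck rW) ∧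
        compK 9 275 (ck (nineImgW.getD 6 [])) (eK k n) =
          compK 9 275 (eK k (ap (rAct2.getD k []) n)) (ck (nineImgW.getD 6 []))) ∧
    ck (rW ++ (rW ++ rW)) = oneK 9 275 ∧
    ck (nineImgW.getD 6 [] ++ (nineImgW.getD 6 [] ++ nineImgW.getD 6 [])) = oneK 9 275 ∧
    compK 9 275 (ck (nineImgW.getD 6 [])) xKey = compK 9 275 xKey (ck (nineImgW.getD 6 [])) ∧
    compK 9 275 (ck rW) xKey = compK 9 275 xKey (ck rW) := by
  decide +kernel

variable {G : Type*} [Group G] {S : Setting G} {w : G}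

/-- Conjugation by the involution sends one element to another, in both groups. -/
def Conj (S : Setting G) (w : G) (c c' : C0) : Prop :=
  w * S.f c = S.f c' * w ∧ wH * (c : H) = (c' : H) * wH

theorem Conj.one (S : Setting G) (w : G) : Conj S w 1 1 := by
  refine ⟨?_, ?_⟩ <;> simp

theorem Conj.mul {a a' b b' : C0} (ha : Conj S w a a') (hb : Conj S w b b') :
    Conj S w (a * b) (a' * b') := by
  refine ⟨?_, ?_⟩
  · rw [map_mul, map_mul, ← mul_assoc, ha.1, mul_assoc, hb.1, mul_assoc]
  · rw [Subgroup.coe_mul, Subgroup.coe_mul, ← mul_assoc, ha.2, mul_assoc, hb.2, mul_assoc]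

theorem conj_nine (w2 : w * w = 1) (hact : ∀ k : Fin 2, S.GAct k w (wAct.getD k [])) :
    ∀ j < 7, Conj S w (cw (nineW.getD j [])) (cw (nineImgW.getD j [])) := by
  intro j hj
  obtain ⟨-, -, hH, -, hk, hr3, hq3, hqx, hrx⟩ := nine_checks
  have hH' : wH * ((cw (nineW.getD j []) : C0) : H) = ((cw (nineImgW.getD j []) : C0) : H) * wH :=
    Subtype.ext ((rep_comp hw rep_wH (rep_cw _)).inj ((beq_iff_eq.1 (List.all_eq_true.1 hH j (List.mem_range.2 hj))) ▸
      rep_comp hw (rep_cw _) rep_wH))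
  have hE : ∀ k : Fin 2, ∀ n < 16, ∀ l, eK k (ap (wAct.getD k []) n) = ck l → w * S.f (el k n) = S.f (cw l) * w := by
    intro k n hn l e
    rw [hact k n hn, eq_of_rep (rep_el k ((ok16_spec (act_facts.1 k).2.2.2.2.1).2 n)) (rep_cw l) e]
  refine ⟨?_, hH'⟩
  interval_cases j
  · exact hE 0 1 (by norm_num) _ (hk 0).2.2.1
  · exact hE 0 2 (by norm_num) _ (hk 0).2.2.2.1
  · exact hE 0 4 (by norm_num) _ (hk 0).1
  · exact hE 0 8 (by norm_num) _ (hk 0).2.1
  · exact hE 1 4 (by norm_num) _ (hk 1).1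
  · exact hE 1 8 (by norm_num) _ (hk 1).2.1
  -- the element of order three
  show w * S.f (cw rW) = S.f (cw (nineImgW.getD 6 [])) * w
  let r : C0 := cw rW
  let q : C0 := cw (nineImgW.getD 6 [])
  have hr : ∀ k : Fin 2, Act k r (rAct.getD k []) := fun k n hn =>
    eq_of_rep (rep_mul (rep_cw rW) (rep_el k hn)) (rep_mul (rep_el k ((ok16_spec (hk k).2.2.2.2.1).2 n)) (rep_cw rW))
      ((hk k).2.2.2.2.2.2.2 ⟨n, hn⟩).1
  have hq : ∀ k : Fin 2, Act k q (rAct2.getD k []) := fun k n hn =>
    eq_of_rep (rep_mul (rep_cw _) (rep_el k hn)) (rep_mul (rep_el k ((ok16_spec (hk k).2.2.2.2.2.1).2 n)) (rep_cw _))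
      ((hk k).2.2.2.2.2.2.2 ⟨n, hn⟩).2
  have winv : w⁻¹ = w := inv_eq_of_mul_eq_one_right w2
  have hz : ∀ k : Fin 2, S.GAct k (w * S.f r * w⁻¹) (rAct2.getD k []) := by
    intro k
    obtain ⟨-, -, -, -, ow, -, hww, -⟩ := act_facts.1 k
    have h1 := gact_mul (gact_mul (hact k) (GAct_of_act (hr k)) (hk k).2.2.2.2.1) (hact k) ow
    rw [(hk k).2.2.2.2.2.2.1] at h1
    intro n hn
    have h2 := h1 n hn
    have hc : ap (cmp (cmp (rAct2.getD k []) (wAct.getD k [])) (wAct.getD k [])) n = ap (rAct2.getD k []) n := by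
      rw [ap_cmp (ok16_spec ow).1 hn, ap_cmp (ok16_spec ow).1 ((ok16_spec ow).2 n),
        ← ap_cmp (ok16_spec ow).1 hn, hww, ap_id16 hn]
    rw [hc] at h2
    rw [winv]; exact h2
  obtain ⟨n, hn, he⟩ := trivial_act (S := S) (g := (S.f q)⁻¹ * (w * S.f r * w⁻¹)) fun k n hn => by
    rw [ap_id16 hn, mul_assoc, hz k n hn, ← mul_assoc, ← mul_assoc (S.f (el k n))]
    congr 1
    rw [inv_mul_eq_iff_eq_mul, ← mul_assoc, GAct_of_act (hq k) n hn, mul_inv_cancel_right]
  have hcomm : q * el 0 n = el 0 n * q := by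
    have hx : q * xB = xB * q := eq_of_rep (rep_mul (rep_cw _) rep_xB) (rep_mul rep_xB (rep_cw _)) hqx
    have e3 : el 0 3 = el 0 1 * el 0 2 := (el_mul 0 (m := 1) (n := 2) (by norm_num) (by norm_num)).symm
    interval_cases n
    · rw [el_zero, mul_one, one_mul]
    · rw [el_one, tB_central]
    · rw [el_two, hx]
    · rw [e3, el_one, el_two, ← mul_assoc, tB_central, mul_assoc, hx, mul_assoc]
  have hwr : w * S.f r * w⁻¹ = S.f (q * el 0 n) := by
    rw [map_mul, ← he]; group
  have h3 : (q * el 0 n) ^ 3 = 1 := by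
    refine S.inj ?_
    rw [map_pow, ← hwr, conj_pow, ← map_pow, show r ^ 3 = 1 from ?_]
    · simp
    · rw [pow_succ, pow_two, mul_assoc]
      exact eq_of_rep (rep_mul (rep_cw rW) (rep_mul (rep_cw rW) (rep_cw rW))) rep_one'
        (by rw [key_comp (rep_cw rW) (rep_cw rW), key_comp (rep_cw rW) (rep_key hw _), ← hr3, key_cw, cw_append, cw_append]; rfl)
  have hq3' : q ^ 3 = 1 := by
    rw [pow_succ, pow_two, mul_assoc]
    show cw _ * (cw _ * cw _) = 1
    rw [← cw_append, ← cw_append]
    exact cw_eq (l' := []) hq3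
  have hn0 : el 0 n = 1 := by
    rw [(show Commute q (el 0 n) from hcomm).mul_pow, hq3', one_mul, pow_succ, pow_two, el_sq 0 (by omega),
      one_mul] at h3
    exact h3
  rw [hn0, mul_one] at hwr
  rw [← hwr, inv_mul_cancel_right]

theorem conj_cv (w2 : w * w = 1) (hact : ∀ k : Fin 2, S.GAct k w (wAct.getD k [])) {c : C0}
    (hc : c * xB = xB * c) {c' : C0} (hH : wH * (c : H) = (c' : H) * wH) : w * S.f c = S.f c' * w := by
  obtain ⟨i, hi, rfl⟩ := cv_list hc
  obtain ⟨-, -, -, hcv, -⟩ := nine_checks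
  have h := List.all_eq_true.1 hcv i (List.mem_range.2 hi)
  simp only [Bool.and_eq_true, List.all_eq_true, Nat.blt_eq, beq_iff_eq] at h
  have key : ∀ l : List ℕ, (∀ j ∈ l, j < 7) →
      ∃ d, Conj S w (cw (l.flatMap fun j => nineW.getD j [])) d := by
    intro l hl
    induction l with
    | nil => exact ⟨1, Conj.one S w⟩
    | cons j l ih =>
      obtain ⟨d, hd⟩ := ih fun a ha => hl a (List.mem_cons_of_mem _ ha)
      rw [List.flatMap_cons, cw_append]
      exact ⟨_, (conj_nine w2 hact j (hl j List.mem_cons_self)).mul hd⟩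
  obtain ⟨d, h1, h2⟩ := key _ h.1
  have e : cw ((cvNine.getD i []).flatMap fun j => nineW.getD j []) = cv i := eq_of_rep (rep_cw _) (rep_cv hi) h.2
  rw [e] at h1 h2
  rw [h1, Subtype.ext (mul_right_cancel (h2.symm.trans hH)) ]

/-- A product with a fixed-point-free action has the order of the action. -/
theorem pow_eq_one {k : Fin 2} {g : G} {p : List ℕ} (h : S.GAct k g p) (op : ok16 p = true) {o : ℕ}
    (ho : (List.replicate o p).foldr cmp id16 = id16)
    (hfix : ((List.range 16).all fun n => !(ap p n == n) || n == 0) = true) : g ^ o = 1 := by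
  have key : ∀ o, S.GAct k (g ^ o) ((List.replicate o p).foldr cmp id16) ∧
      ok16 ((List.replicate o p).foldr cmp id16) = true := by
    intro o
    induction o with
    | zero => exact ⟨by rw [pow_zero]; exact gact_one k, show ok16 id16 = true by decide⟩
    | succ o ih =>
      rw [pow_succ', List.replicate_succ, List.foldr_cons]
      exact ⟨gact_mul h ih.1 ih.2, ok16_cmp op ih.2⟩
  have h1 := (key o).1
  rw [ho] at h1
  obtain ⟨c, hc⟩ := S.pre (g := g ^ o) (by
    have := h1 1 (by norm_num)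
    rwa [ap_id16 (by norm_num), el_one, S.map_t] at this)
  rw [← hc] at h1
  obtain ⟨n, hn, rfl⟩ := comm_el_basis (k := k) (c := c) fun n hn => by
    have := gact_act h1 n hn
    rwa [ap_id16 hn] at this
  have hfn : ap p n = n := by
    have e := h n hn
    rw [hc, ← pow_succ', pow_succ, ← hc] at e
    exact el_inj k ((ok16_spec op).2 n) hn (S.inj (mul_right_cancel e.symm))
  have h0 := List.all_eq_true.1 hfix n (List.mem_range.2 hn)
  simp only [hfn, beq_self_eq_true, Bool.not_true, Bool.false_or, beq_iff_eq] at h0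
  rw [← hc, h0, el_zero, map_one]

end CfsgLib.Sporadic.McLUnique
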