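import Cfsg.Agent.Lib.Sporadic.McLUnique.Fusion

/-!
# The involution outside the centraliser

An element cycling the four-group normalises both elementary abelian subgroups of order sixteen; its action on
each is one of twelve maps, and after a correction inside the stabiliser it is a given pair of maps. Composed
with an involution of the centraliser it gives an involution with given actions.
-/

set_option autoImplicit false
set_option maxRecDepth 100000

namespace CfsgLib.Sporadic.McLUnique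

open CfsgLib.Sporadic.OutCert CfsgLib.Sporadic.OutCert.McL

attribute [local irreducible] lk pkF allF compK oneK ka kai kb gTab twoTree fixB cgKeys eKeys cvKeys cvW classW
  xKey basW centW letterW lKeys nAct lTab eNW stabW s2Tab

/-- The linear map fixed by the images of the last two basis labels. -/
def linL (p q : ℕ) : List ℕ :=
  (List.range 16).map fun n => (if Nat.testBit n 0 then 2 else 0) ^^^ (if Nat.testBit n 1 then 3 else 0) ^^^
    (if Nat.testBit n 2 then p else 0) ^^^ (if Nat.testBit n 3 then q else 0)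

/-- The maps entering a witnessing word. -/
def witGen (k : Fin 2) (a : List ℕ) (j : ℕ) : List ℕ := (a :: nAct.getD k []).getD j []

/-- The map of a witnessing word. -/
def witAct (k : Fin 2) (a : List ℕ) (l : List ℕ) : List ℕ := l.foldr (fun j r => cmp (witGen k a j) r) id16

theorem cand_check : ∀ k : Fin 2, ((List.range 16).all fun p => (List.range 16).all fun q =>
    (goodTab.getD k []).contains (p, q) || !decide (linL p q).Nodup ||
      (badTab.getD k []).any fun e => e.1 == p && e.2.1 == q && (e.2.2.all fun j => Nat.blt j 5) &&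
        ap (witAct k (linL p q) e.2.2) 1 == 1 && !(lPerms k).contains (witAct k (linL p q) e.2.2)) = true := by
  decide +kernel

/-- The commutator label. -/
def com (m n : ℕ) : ℕ := ap (comTab.getD m []) n

theorem com_check : ((List.range 16).all fun m => (List.range 16).all fun n => Nat.blt (com m n) 4 &&
      compK 9 275 (eK 0 m) (compK 9 275 (eK 1 n) (compK 9 275 (eK 0 m) (eK 1 n))) == eK 0 (com m n)) = true := by
  decide +kernel

theorem cvAct_check : (cvAct.all fun e => Nat.blt e.1 192 && ok16 e.2.1 && ok16 e.2.2 &&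
      ((List.range 16).all fun n =>
        compK 9 275 (cvKeys.getD e.1 0) (eK 0 n) == compK 9 275 (eK 0 (ap e.2.1 n)) (cvKeys.getD e.1 0) &&
        compK 9 275 (cvKeys.getD e.1 0) (eK 1 n) == compK 9 275 (eK 1 (ap e.2.2 n)) (cvKeys.getD e.1 0))) = true := by
  decide +kernel

theorem pair_check : ((goodTab.getD 0 []).all fun a => (goodTab.getD 1 []).all fun b =>
    pairTab.any fun e => e.1 == a && e.2.1 == b &&
      if e.2.2.1 = 0 then Nat.blt e.2.2.2.1 16 && Nat.blt e.2.2.2.2 16 &&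
        !(com (ap (linL a.1 a.2) e.2.2.2.1) (ap (linL b.1 b.2) e.2.2.2.2) ==
          ap (linL a.1 a.2) (com e.2.2.2.1 e.2.2.2.2))
      else Nat.blt (e.2.2.1 - 1) cvAct.length &&
        cmp (linL a.1 a.2) (cvAct.getD (e.2.2.1 - 1) (0, [], [])).2.1 == target.getD 0 [] &&
        cmp (linL b.1 b.2) (cvAct.getD (e.2.2.1 - 1) (0, [], [])).2.2 == target.getD 1 []) = true := by
  decide +kernel

theorem act_facts : (∀ k : Fin 2, (nAct.getD k []).getD 0 [] = iAct.getD k [] ∧ (nLet.getD k []).getD 0 0 = 0 ∧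
      cmp (iAct.getD k []) (target.getD k []) = wAct.getD k [] ∧ ok16 (target.getD k []) = true ∧
      ok16 (wAct.getD k []) = true ∧ ok16 (iAct.getD k []) = true ∧
      cmp (wAct.getD k []) (wAct.getD k []) = id16 ∧ cmp id16 (wAct.getD k []) = wAct.getD k [] ∧
      ap (wAct.getD k []) 1 = 3 ∧ ap (wAct.getD k []) 2 = 2 ∧ ap (wAct.getD k []) 3 = 1) ∧
    compK 9 275 (ck aW) xKey = compK 9 275 (eK 0 3) (ck aW) := by
  decide +kernel

variable {G : Type*} [Group G] {S : Setting G}

theorem exists_perm {k : Fin 2} {g : G} (h : ∀ n < 16, ∃ m < 16, g * S.f (el k n) = S.f (el k m) * g) :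
    ∃ p, ok16 p = true ∧ S.GAct k g p := by
  choose! v hv16 hv using h
  refine ⟨(List.range 16).map v, ?_, fun n hn => ?_⟩
  · simp only [ok16, List.length_map, List.length_range, beq_self_eq_true, Bool.true_and, List.all_eq_true,
      List.mem_map, List.mem_range, Nat.blt_eq]
    rintro _ ⟨n, hn, rfl⟩
    exact hv16 n hn
  · rw [ap, List.getD_eq_getElem _ _ (by simpa using hn), List.getElem_map, List.getElem_range]
    exact hv n hn

theorem gact_linear {k : Fin 2} {g : G} {p : List ℕ} (h : S.GAct k g p) (op : ok16 p = true) {m n : ℕ}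
    (hm : m < 16) (hn : n < 16) : ap p (m ^^^ n) = ap p m ^^^ ap p n := by
  have h16 : m ^^^ n < 16 := Nat.xor_lt_two_pow (n := 4) hm hn
  have hb := (ok16_spec op).2
  refine el_inj k (hb _) (Nat.xor_lt_two_pow (n := 4) (hb m) (hb n)) (S.inj (mul_right_cancel (b := g) ?_))
  rw [← h _ h16, ← el_mul k hm hn, ← el_mul k (hb m) (hb n), map_mul, map_mul, ← mul_assoc, h m hm, mul_assoc,
    h n hn, ← mul_assoc]

theorem gact_nodup {k : Fin 2} {g : G} {p : List ℕ} (h : S.GAct k g p) (op : ok16 p = true) : p.Nodup := by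
  rw [List.nodup_iff_injective_getElem]
  rintro ⟨i, hi⟩ ⟨j, hj⟩ e
  have hl := (ok16_spec op).1
  have e' : ap p i = ap p j := by
    rw [ap, ap, List.getD_eq_getElem _ _ hi, List.getD_eq_getElem _ _ hj]; exact e
  have h1 := h i (hl ▸ hi)
  rw [e', ← h j (hl ▸ hj)] at h1
  exact Fin.ext (el_inj k (hl ▸ hi) (hl ▸ hj) (S.inj (mul_left_cancel h1)))

theorem eq_linL {k : Fin 2} {g : G} {p : List ℕ} (h : S.GAct k g p) (op : ok16 p = true) (h1 : ap p 1 = 2)
    (h2 : ap p 2 = 3) : p = linL (ap p 4) (ap p 8) := by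
  have h0 : ap p 0 = 0 := by
    have := gact_linear h op (m := 0) (n := 0) (by norm_num) (by norm_num)
    rw [Nat.xor_self, Nat.xor_self] at this
    exact this
  refine list16_ext (ok16_spec op).1 (by simp [linL]) fun n hn => ?_
  have hdec : ∀ n < 16, n = (n &&& 1) ^^^ (n &&& 2) ^^^ (n &&& 4) ^^^ (n &&& 8) ∧
      (∀ j < 4, n &&& 2 ^ j = if Nat.testBit n j then 2 ^ j else 0) ∧
      (n &&& 1) ^^^ (n &&& 2) < 16 ∧ (n &&& 1) ^^^ (n &&& 2) ^^^ (n &&& 4) < 16 ∧ n &&& 1 < 16 ∧ n &&& 2 < 16 ∧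
      n &&& 4 < 16 ∧ n &&& 8 < 16 := by decide
  obtain ⟨he, hb, l12, l124, l1, l2, l4, l8⟩ := hdec n hn
  have b0 := hb 0 (by norm_num)
  have b1 := hb 1 (by norm_num)
  have b2 := hb 2 (by norm_num)
  have b3 := hb 3 (by norm_num)
  simp only [pow_zero, pow_one, show (2 : ℕ) ^ 2 = 4 from rfl, show (2 : ℕ) ^ 3 = 8 from rfl] at b0 b1 b2 b3
  conv_lhs => rw [he, gact_linear h op l124 l8, gact_linear h op l12 l4, gact_linear h op l1 l2]
  have hr : ap (linL (ap p 4) (ap p 8)) n = (if Nat.testBit n 0 then 2 else 0) ^^^ (if Nat.testBit n 1 then 3 else 0) ^^^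
      (if Nat.testBit n 2 then ap p 4 else 0) ^^^ (if Nat.testBit n 3 then ap p 8 else 0) := by
    conv_lhs => rw [ap, linL, List.getD_eq_getElem _ _ (by simpa using hn), List.getElem_map, List.getElem_range]
  rw [hr, b0, b1, b2, b3]
  split_ifs <;> simp only [h0, h1, h2]

theorem good_cand {k : Fin 2} {g : G} {p : List ℕ} (h : S.GAct k g p) (op : ok16 p = true) (h1 : ap p 1 = 2)
    (h2 : ap p 2 = 3) : (ap p 4, ap p 8) ∈ goodTab.getD k [] := by
  have hp := eq_linL h op h1 h2
  have hb := (ok16_spec op).2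
  have hc := List.all_eq_true.1 (List.all_eq_true.1 (cand_check k) _ (List.mem_range.2 (hb 4))) _
    (List.mem_range.2 (hb 8))
  rw [← hp] at hc
  simp only [gact_nodup h op, decide_true, Bool.not_true, Bool.or_false, Bool.or_eq_true, List.contains_iff_mem,
    List.any_eq_true, Bool.and_eq_true, List.all_eq_true, Nat.blt_eq, beq_iff_eq, Bool.not_eq_true'] at hc
  rcases hc with hc | ⟨e, -, ⟨⟨⟨-, -⟩, hl⟩, hfix⟩, hnot⟩
  · exact hc
  exfalso
  have key : ∀ l : List ℕ, (∀ j ∈ l, j < 5) → ∃ u : G, S.GAct k u (witAct k p l) ∧ ok16 (witAct k p l) = true := by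
    intro l hl
    induction l with
    | nil => exact ⟨1, gact_one k, show ok16 id16 = true by decide⟩
    | cons j l ih =>
      obtain ⟨u, hu, ou⟩ := ih fun i hi => hl i (List.mem_cons_of_mem _ hi)
      have hj := hl j List.mem_cons_self
      rcases j with _ | j
      · exact ⟨g * u, gact_mul h hu ou, ok16_cmp op ou⟩
      · exact ⟨_, gact_mul (GAct_of_act (act_letter k (by omega : j < 4))) hu ou,
          ok16_cmp (ok16_nAct k (by omega)) ou⟩
  obtain ⟨u, hu, ou⟩ := key e.2.2 hl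
  obtain ⟨c, rfl⟩ := S.pre (g := u) (by
    have := hu 1 (by norm_num)
    rwa [hfix, el_one, S.map_t] at this)
  obtain ⟨q, hq, oq, hqa⟩ := norm_act (k := k) (c := c) fun n hn => ⟨_, (ok16_spec ou).2 n, gact_act hu n hn⟩
  rw [(gact_act hu).unique hqa ou oq] at hnot
  rw [List.contains_iff_mem.2 hq] at hnot
  exact Bool.noConfusion hnot

theorem com_spec {m n : ℕ} (hm : m < 16) (hn : n < 16) :
    com m n < 4 ∧ el 0 m * (el 1 n * (el 0 m * el 1 n)) = el 0 (com m n) := by
  have h := List.all_eq_true.1 (List.all_eq_true.1 com_check m (List.mem_range.2 hm)) n (List.mem_range.2 hn)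
  simp only [Bool.and_eq_true, Nat.blt_eq, beq_iff_eq] at h
  exact ⟨h.1, eq_of_rep (rep_mul (rep_el 0 hm) (rep_mul (rep_el 1 hn) (rep_mul (rep_el 0 hm) (rep_el 1 hn))))
    (rep_el 0 (h.1.trans (by norm_num))) h.2⟩

/-- A correction makes the two actions the given ones. -/
theorem corrected {g : G} {A B : List ℕ} (hA : S.GAct 0 g A) (hB : S.GAct 1 g B) (oA : ok16 A = true)
    (oB : ok16 B = true) (a1 : ap A 1 = 2) (a2 : ap A 2 = 3) (b1 : ap B 1 = 2) (b2 : ap B 2 = 3) :
    ∃ σ : G, ∀ k : Fin 2, S.GAct k σ (target.getD k []) := by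
  have hc := List.all_eq_true.1 (List.all_eq_true.1 pair_check _ (good_cand hA oA a1 a2)) _ (good_cand hB oB b1 b2)
  rw [← eq_linL hA oA a1 a2, ← eq_linL hB oB b1 b2] at hc
  simp only [List.any_eq_true, Bool.and_eq_true] at hc
  obtain ⟨e, -, ⟨-, -⟩, he⟩ := hc
  split_ifs at he with h0
  · exfalso
    simp only [Bool.and_eq_true, Nat.blt_eq, Bool.not_eq_true', beq_eq_false_iff_ne] at he
    obtain ⟨⟨hm, hn⟩, hne⟩ := he
    generalize e.2.2.2.1 = m at hm hne
    generalize e.2.2.2.2 = n at hn hne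
    have bA := (ok16_spec oA).2
    have bB := (ok16_spec oB).2
    have hl : ∀ a, a < 16 → g * S.f (el 0 a) = S.f (el 0 (ap A a)) * g := hA
    have h16 : com m n < 16 := (com_spec hm hn).1.trans (by norm_num)
    refine hne (el_inj 0 ((com_spec (bA m) (bB n)).1.trans (by norm_num)) (bA _) (S.inj (mul_right_cancel (b := g) ?_)))
    rw [← (com_spec (bA m) (bB n)).2, ← hl _ h16, ← (com_spec hm hn).2, map_mul, map_mul, map_mul, map_mul,
      map_mul, map_mul, mul_assoc, mul_assoc, mul_assoc, ← hB n hn, ← mul_assoc (S.f (el 0 (ap A m))) g,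
      ← hA m hm, mul_assoc, ← mul_assoc (S.f (el 1 (ap B n))) g, ← hB n hn, mul_assoc,
      ← mul_assoc (S.f (el 0 (ap A m))) g, ← hA m hm, mul_assoc]
  · simp only [Bool.and_eq_true, Nat.blt_eq, beq_iff_eq] at he
    obtain ⟨⟨hlen, hT0⟩, hT1⟩ := he
    have hmem : cvAct.getD (e.2.2.1 - 1) (0, [], []) ∈ cvAct := by
      rw [List.getD_eq_getElem _ _ hlen]; exact List.getElem_mem _
    generalize cvAct.getD (e.2.2.1 - 1) (0, [], []) = c at hmem hT0 hT1
    have hch := List.all_eq_true.1 cvAct_check c hmem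
    simp only [Bool.and_eq_true, Nat.blt_eq, List.all_eq_true, List.mem_range, beq_iff_eq] at hch
    obtain ⟨⟨⟨hi, o0⟩, o1⟩, hact⟩ := hch
    have c0 : Act 0 (cv c.1) c.2.1 := fun n hn =>
      eq_of_rep (rep_mul (rep_cv hi) (rep_el 0 hn)) (rep_mul (rep_el 0 ((ok16_spec o0).2 n)) (rep_cv hi)) (hact n hn).1
    have c1 : Act 1 (cv c.1) c.2.2 := fun n hn =>
      eq_of_rep (rep_mul (rep_cv hi) (rep_el 1 hn)) (rep_mul (rep_el 1 ((ok16_spec o1).2 n)) (rep_cv hi)) (hact n hn).2
    refine ⟨g * S.f (cv c.1), fun k => ?_⟩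
    match k with
    | 0 => exact hT0 ▸ gact_mul hA (GAct_of_act c0) o0
    | 1 => exact hT1 ▸ gact_mul hB (GAct_of_act c1) o1

/-- The involution with the given actions. -/
theorem exists_w (hx : ∃ g, g * S.t * g⁻¹ = S.f xB) :
    ∃ w : G, w * w = 1 ∧ ∀ k : Fin 2, S.GAct k w (wAct.getD k []) := by
  classical
  obtain ⟨g0, hg0⟩ := hx
  -- two elements moving the four-group
  have e3 : el 0 3 = tB * xB := by
    rw [← el_one 0, ← el_two 0, el_mul 0 (by norm_num) (by norm_num)]; rfl
  have ha : cw aW * xB = el 0 3 * cw aW :=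
    eq_of_rep (rep_mul (rep_cw aW) rep_xB) (rep_mul (rep_el 0 (by norm_num)) (rep_cw aW)) act_facts.2
  obtain ⟨y, hy⟩ : ∃ y, g0 * S.f y * g0⁻¹ = S.t := by
    have hc : g0⁻¹ * S.t * g0 * S.t = S.t * (g0⁻¹ * S.t * g0) := by
      have h : S.t * (g0 * S.t * g0⁻¹) = g0 * S.t * g0⁻¹ * S.t := by rw [hg0, S.t_comm]
      calc g0⁻¹ * S.t * g0 * S.t = g0⁻¹ * (S.t * (g0 * S.t * g0⁻¹)) * g0 := by group
        _ = g0⁻¹ * (g0 * S.t * g0⁻¹ * S.t) * g0 := by rw [h]
        _ = _ := by group
    obtain ⟨y, hy⟩ := S.pre hc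
    exact ⟨y, by rw [hy]; group⟩
  have hy2 : y * y = 1 := S.inj (by
    have h := congrArg (fun z => g0⁻¹ * (z * z) * g0) hy
    simp only [S.t_sq, mul_one, inv_mul_cancel] at h
    rw [map_mul, map_one, ← h]; group)
  have hy1 : y ≠ 1 := fun e => S.t_ne (by rw [← hy, e, map_one]; group)
  have hyt : y ≠ tB := fun e => by
    rw [e, S.map_t] at hy
    exact xB_ne_tB (S.inj (hg0.symm.trans (hy.trans S.map_t.symm)))
  obtain ⟨d, hd⟩ := involution_class hy2 hy1 hyt
  have hBy : d⁻¹ * cw aW * d * y = tB * y * (d⁻¹ * cw aW * d) := by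
    have hd' : y = d⁻¹ * xB * d := by rw [← hd]; group
    calc d⁻¹ * cw aW * d * y = d⁻¹ * (cw aW * xB) * d := by rw [hd']; group
      _ = d⁻¹ * tB * (xB * cw aW * d) := by rw [ha, e3]; group
      _ = tB * d⁻¹ * (xB * cw aW * d) := by rw [tB_central]
      _ = _ := by rw [hd']; group
  let A : G := S.f (cw aW)
  let B : G := g0 * S.f (d⁻¹ * cw aW * d) * g0⁻¹
  have hAx : A * S.f xB = S.f (el 0 3) * A := by rw [← map_mul, ← map_mul, ha]
  have hBt : B * S.t = S.f (el 0 3) * B := by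
    calc B * S.t = g0 * S.f (d⁻¹ * cw aW * d * y) * g0⁻¹ := by
          rw [map_mul _ (d⁻¹ * cw aW * d) y]; conv_lhs => rw [← hy]
          simp only [B]
          group
      _ = (g0 * S.t * g0⁻¹) * (g0 * S.f y * g0⁻¹) * B := by rw [hBy, map_mul, map_mul, S.map_t]; simp only [B]; group
      _ = _ := by rw [hg0, hy, e3, map_mul, S.map_t, S.t_comm]
  have hBx : B * S.f xB = S.f xB * B := by
    calc B * S.f xB = g0 * (S.f (d⁻¹ * cw aW * d) * S.t) * g0⁻¹ := by rw [← hg0]; simp only [B]; group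
      _ = _ := by rw [S.t_comm, ← hg0]; simp only [B]; group
  have hAt : A * S.t = S.t * A := S.t_comm _
  let h : G := A * B
  have ht' : S.t = S.f (el 0 1) := by rw [el_one, S.map_t]
  have hx' : S.f xB = S.f (el 0 2) := by rw [el_two]
  have h1 : h * S.f (el 0 1) = S.f (el 0 2) * h := by
    rw [← ht', ← hx']
    calc h * S.t = A * (B * S.t) := mul_assoc _ _ _
      _ = A * S.f tB * S.f xB * B := by rw [hBt, e3, map_mul]; group
      _ = S.t * (A * S.f xB) * B := by rw [S.map_t, hAt]; group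
      _ = S.t * S.t * S.f xB * h := by rw [hAx, e3, map_mul, S.map_t]; simp only [h]; group
      _ = _ := by rw [S.t_sq, one_mul]
  have h2 : h * S.f (el 0 2) = S.f (el 0 3) * h := by
    rw [← hx']
    calc h * S.f xB = A * (B * S.f xB) := mul_assoc _ _ _
      _ = A * S.f xB * B := by rw [hBx]; group
      _ = _ := by rw [hAx]; simp only [h]; group
  have hsplit : el 0 3 = el 0 1 * el 0 2 := (el_mul 0 (m := 1) (n := 2) (by norm_num) (by norm_num)).symm
  have h3 : h * S.f (el 0 3) = S.f (el 0 1) * h := by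
    calc h * S.f (el 0 3) = h * S.f (el 0 1) * S.f (el 0 2) := by rw [hsplit, map_mul, ← mul_assoc]
      _ = S.f (el 0 2) * (h * S.f (el 0 2)) := by rw [h1, mul_assoc]
      _ = S.f (el 0 2 * el 0 3) * h := by rw [h2, map_mul, mul_assoc]
      _ = _ := by rw [el_mul 0 (by norm_num) (by norm_num)]; rfl
  have hV : ∀ n < 4, ∃ m < 4, h * S.f (el 0 n) = S.f (el 0 m) * h := by
    intro n hn
    interval_cases n
    · exact ⟨0, by norm_num, by rw [el_zero, map_one, mul_one, one_mul]⟩
    · exact ⟨2, by norm_num, h1⟩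
    · exact ⟨3, by norm_num, h2⟩
    · exact ⟨1, by norm_num, h3⟩
  choose π hπ using move hV
  have hππ : ∀ k, π (π k) = k := by
    have : ∀ π : Fin 2 → Fin 2, Function.Injective π → ∀ k, π (π k) = k := by decide
    exact this π (move_inj hπ)
  let g : G := h * h * (h * h)
  have hgk : ∀ k, ∀ n < 16, ∃ m < 16, g * S.f (el k n) = S.f (el k m) * g := by
    have hh : ∀ k, ∀ n < 16, ∃ m < 16, h * h * S.f (el k n) = S.f (el k m) * (h * h) := by
      intro k n hn
      obtain ⟨m, hm, e⟩ := hπ k n hn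
      obtain ⟨l, hl, e'⟩ := hπ (π k) m hm
      rw [hππ] at e'
      exact ⟨l, hl, by rw [mul_assoc, e, ← mul_assoc, e', mul_assoc]⟩
    intro k n hn
    obtain ⟨m, hm, e⟩ := hh k n hn
    obtain ⟨l, hl, e'⟩ := hh k m hm
    exact ⟨l, hl, by rw [mul_assoc, e, ← mul_assoc, e', mul_assoc]⟩
  have hgV : g * S.f (el 0 1) = S.f (el 0 2) * g ∧ g * S.f (el 0 2) = S.f (el 0 3) * g := by
    have s : ∀ {a b c d e : ℕ}, h * S.f (el 0 a) = S.f (el 0 b) * h → h * S.f (el 0 b) = S.f (el 0 c) * h →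
        h * S.f (el 0 c) = S.f (el 0 d) * h → h * S.f (el 0 d) = S.f (el 0 e) * h →
        g * S.f (el 0 a) = S.f (el 0 e) * g := by
      intro a b c d e q1 q2 q3 q4
      calc g * S.f (el 0 a) = h * h * h * (h * S.f (el 0 a)) := by simp only [g]; group
        _ = h * h * (h * S.f (el 0 b)) * h := by rw [q1]; group
        _ = h * (h * S.f (el 0 c)) * h * h := by rw [q2]; group
        _ = (h * S.f (el 0 d)) * h * h * h := by rw [q3]; group
        _ = _ := by rw [q4]; simp only [g]; group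
    exact ⟨s h1 h2 h3 h1, s h2 h3 h1 h2⟩
  have hAB : ∀ k : Fin 2, ∃ p, ok16 p = true ∧ S.GAct k g p ∧ ap p 1 = 2 ∧ ap p 2 = 3 := by
    intro k
    obtain ⟨p, op, hp⟩ := exists_perm (hgk k)
    have hv : ∀ a b, a < 4 → b < 4 → g * S.f (el 0 a) = S.f (el 0 b) * g → ap p a = b := by
      intro a b ha hb e
      rw [← el_vee ha k, ← el_vee hb k, hp a (by omega)] at e
      exact el_inj k ((ok16_spec op).2 a) (by omega) (S.inj (mul_right_cancel e))
    exact ⟨p, op, hp, hv 1 2 (by norm_num) (by norm_num) hgV.1, hv 2 3 (by norm_num) (by norm_num) hgV.2⟩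
  obtain ⟨A0, oA, hA0, a1, a2⟩ := hAB 0
  obtain ⟨B0, oB, hB0, b1, b2⟩ := hAB 1
  obtain ⟨σ, hσ⟩ := corrected hA0 hB0 oA oB a1 a2 b1 b2
  -- the involution
  let q : G := S.f (lt' 0) * σ
  have hq : ∀ k : Fin 2, S.GAct k q (wAct.getD k []) := by
    intro k
    obtain ⟨hn, hl, hc, ot, -, oi, -⟩ := act_facts.1 k
    have hi : S.GAct k (S.f (lt' 0)) (iAct.getD k []) := by
      have := GAct_of_act (S := S) (act_letter k (j := 0) (by norm_num))
      rwa [hn, hl] at this
    exact hc ▸ gact_mul hi (hσ k) ot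
  obtain ⟨n, hn, he⟩ := trivial_act (g := q * q) fun k => by
    obtain ⟨-, -, -, -, ow, -, hww, -⟩ := act_facts.1 k
    exact hww ▸ gact_mul (hq k) (hq k) ow
  obtain ⟨-, -, -, -, -, -, -, -, w1, w2, w3⟩ := act_facts.1 0
  have hfix : n = 0 ∨ n = 2 := by
    have e := hq 0 n (by omega)
    rw [← he, ← mul_assoc] at e
    have e' : ap (wAct.getD (0 : Fin 2) []) n = n := by
      refine el_inj 0 ((ok16_spec (act_facts.1 0).2.2.2.2.1).2 n) (by omega) (S.inj (mul_right_cancel (b := q) ?_))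
      rw [← e, ← he]
    interval_cases n
    · exact Or.inl rfl
    · rw [w1] at e'; omega
    · exact Or.inr rfl
    · rw [w3] at e'; omega
  rcases hfix with rfl | rfl
  · exact ⟨q, by rw [he, el_zero, map_one], hq⟩
  · refine ⟨S.f (el 0 1) * q, ?_, fun k => ?_⟩
    · have e := hq 0 1 (by norm_num)
      rw [w1] at e
      calc S.f (el 0 1) * q * (S.f (el 0 1) * q) = S.f (el 0 1) * (q * S.f (el 0 1)) * q := by group
        _ = S.f (el 0 1) * S.f (el 0 3) * (q * q) := by rw [e]; group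
        _ = S.f (el 0 1 * el 0 3 * el 0 2) := by rw [he, map_mul, map_mul]
        _ = 1 := by
          rw [el_mul 0 (m := 1) (n := 3) (by norm_num) (by norm_num), show (1 ^^^ 3 : ℕ) = 2 from rfl,
            el_sq 0 (by norm_num), map_one]
    · obtain ⟨-, -, -, -, ow, -, -, hid, -⟩ := act_facts.1 k
      exact hid ▸ gact_mul (GAct_of_act ((el_vee (by norm_num : (1 : ℕ) < 4) k) ▸ act_el k (by norm_num))) (hq k) ow

end CfsgLib.Sporadic.McLUnique
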